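import Mathlib
import Groth.Prelude.Def_GrLC

/-!
Helper lemmas on graded modules (helper66): graded homs commute with `decompose`,
homogeneous scalars shift components, kernels / ranges of graded homs are homogeneous.
-/

set_option autoImplicit false
universe u

namespace Groth.Agent.Lib.Helper66.Graded

open DirectSum

variable {ι : Type} [AddCommGroup ι] [DecidableEq ι]
variable {R : Type u} [CommRing R] (𝒜 : ι → AddSubgroup R) [GradedRing 𝒜]
variable {M : Type u} [AddCommGroup M] [Module R M] (ℳ : ι → AddSubgroup M) [Decomposition ℳ]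
variable {N : Type u} [AddCommGroup N] [Module R N] (𝒩 : ι → AddSubgroup N) [Decomposition 𝒩]

omit [AddCommGroup ι] in
/-- A graded hom commutes with taking homogeneous components. -/
theorem decompose_grHom (f : M →ₗ[R] N) (hf : GrLC.IsGrHom ℳ 𝒩 f) (m : M) (i : ι) :
    (decompose 𝒩 (f m) i : N) = f (decompose ℳ m i : M) := by
  induction m using DirectSum.Decomposition.inductionOn ℳ with
  | zero => simp
  | @homogeneous j m =>
    obtain ⟨m, hm⟩ := m
    by_cases h : j = i
    · subst h
      rw [decompose_of_mem_same _ hm, decompose_of_mem_same _ (hf _ _ hm)]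
    · rw [decompose_of_mem_ne _ hm h, decompose_of_mem_ne _ (hf _ _ hm) h, map_zero]
  | add m m' h h' =>
    simp only [map_add, decompose_add, DirectSum.add_apply, AddSubgroup.coe_add, h, h']

omit [AddCommGroup ι] in
/-- The kernel of a graded hom is homogeneous. -/
theorem ker_isHomogeneous (f : M →ₗ[R] N) (hf : GrLC.IsGrHom ℳ 𝒩 f) :
    (LinearMap.ker f).IsHomogeneous ℳ := by
  intro i m hm
  rw [LinearMap.mem_ker] at hm ⊢
  rw [← decompose_grHom ℳ 𝒩 f hf, hm]
  simp

omit [AddCommGroup ι] in
/-- The range of a graded hom is homogeneous. -/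
theorem range_isHomogeneous (f : M →ₗ[R] N) (hf : GrLC.IsGrHom ℳ 𝒩 f) :
    (LinearMap.range f).IsHomogeneous 𝒩 := by
  rintro i _ ⟨m, rfl⟩
  exact ⟨(decompose ℳ m i : M), (decompose_grHom ℳ 𝒩 f hf m i).symm⟩

variable [SetLike.GradedSMul 𝒜 𝒩]

/-- A homogeneous scalar of degree `h` shifts components by `h`. -/
theorem decompose_smul_homog {h : ι} {a : R} (ha : a ∈ 𝒜 h) (x : N) (i : ι) :
    (decompose 𝒩 (a • x) (h + i) : N) = a • (decompose 𝒩 x i : N) := by
  induction x using DirectSum.Decomposition.inductionOn 𝒩 with
  | zero => simp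
  | @homogeneous j x =>
    obtain ⟨x, hx⟩ := x
    have hax : a • x ∈ 𝒩 (h + j) := SetLike.GradedSMul.smul_mem ha hx
    by_cases hji : j = i
    · subst hji
      rw [decompose_of_mem_same _ hx, decompose_of_mem_same _ hax]
    · have : h + j ≠ h + i := fun e => hji (add_left_cancel e)
      rw [decompose_of_mem_ne _ hx hji, decompose_of_mem_ne _ hax this, smul_zero]
  | add x x' hx hx' =>
    simp only [smul_add, decompose_add, DirectSum.add_apply, AddSubgroup.coe_add, hx, hx']

/-- Components of `a • z` for homogeneous `z` of degree `g`. -/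
theorem decompose_smul_of_mem {g : ι} {z : N} (hz : z ∈ 𝒩 g) (a : R) (i : ι) :
    (decompose 𝒩 (a • z) i : N) = (decompose 𝒜 a (i - g) : R) • z := by
  induction a using DirectSum.Decomposition.inductionOn 𝒜 with
  | zero => simp
  | @homogeneous h a =>
    obtain ⟨a, ha⟩ := a
    have haz : a • z ∈ 𝒩 (h + g) := SetLike.GradedSMul.smul_mem ha hz
    by_cases hh : h = i - g
    · subst hh
      have e : i - g + g = i := sub_add_cancel i g
      rw [decompose_of_mem_same _ ha]
      have := decompose_of_mem_same 𝒩 haz
      rw [e] at this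
      exact this
    · have : h + g ≠ i := fun e => hh (by rw [← e, add_sub_cancel_right])
      rw [decompose_of_mem_ne _ ha hh, decompose_of_mem_ne _ haz this, zero_smul]
  | add a a' ha ha' =>
    simp only [add_smul, decompose_add, DirectSum.add_apply, AddSubgroup.coe_add, ha, ha']

end Groth.Agent.Lib.Helper66.Graded
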