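import Mathlib
import Groth.Prelude.Def_GrLC
import Groth.Agent.Lib.Helper66.Graded

/-!
# Enough *injectives in the category of graded modules (helper66)

`Cofree 𝒜 N` is the graded `R`-module `⊕_g N` (finitely supported functions `ι → N`) with
`r_h • (n at g) = (r_h n at h + g)`; it is the value at `N` of the right adjoint of the forgetful
functor from graded modules to modules.  If `N` is an injective module then `Cofree 𝒜 N` is
*injective, and every graded module embeds homogeneously in such a module.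
-/

set_option autoImplicit false
set_option linter.unusedSectionVars false
universe u

namespace Groth.Agent.Lib.Helper66.GradedInj

open DirectSum

variable {ι : Type} [AddCommGroup ι] [DecidableEq ι]
variable {R : Type u} [CommRing R] (𝒜 : ι → AddSubgroup R) [GradedRing 𝒜]
variable (N : Type u) [AddCommGroup N] [Module R N]

/-- The cofree graded module on `N`: finitely supported functions `ι → N`. -/
@[nolint unusedArguments]
def Cofree (_𝒜 : ι → AddSubgroup R) (N : Type u) [AddCommGroup N] : Type u := ι →₀ N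

noncomputable instance : AddCommGroup (Cofree 𝒜 N) := inferInstanceAs (AddCommGroup (ι →₀ N))

/-- identity to the underlying finsupp -/
noncomputable def toF : Cofree 𝒜 N ≃+ (ι →₀ N) := AddEquiv.refl _

/-- the element `n` placed in degree `g` -/
noncomputable def csingle (g : ι) : N →+ Cofree 𝒜 N :=
  (toF 𝒜 N).symm.toAddMonoidHom.comp (Finsupp.singleAddHom g)

theorem toF_csingle (g : ι) (n : N) : toF 𝒜 N (csingle 𝒜 N g n) = Finsupp.single g n := rfl

/-- coefficient -/
noncomputable def coeff (x : Cofree 𝒜 N) (g : ι) : N := toF 𝒜 N x g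

theorem coeff_csingle (g g' : ι) (n : N) :
    coeff 𝒜 N (csingle 𝒜 N g n) g' = if g = g' then n else 0 := by
  classical
  unfold coeff
  rw [toF_csingle, Finsupp.single_apply]

theorem cofree_ext {x y : Cofree 𝒜 N} (h : ∀ g, coeff 𝒜 N x g = coeff 𝒜 N y g) : x = y :=
  (toF 𝒜 N).injective (Finsupp.ext h)

theorem coeff_add (x y : Cofree 𝒜 N) (g : ι) :
    coeff 𝒜 N (x + y) g = coeff 𝒜 N x g + coeff 𝒜 N y g := by
  unfold coeff
  rw [map_add, Finsupp.add_apply]

theorem coeff_zero (g : ι) : coeff 𝒜 N (0 : Cofree 𝒜 N) g = 0 := by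
  unfold coeff
  rw [map_zero, Finsupp.zero_apply]

/-- additive maps out of `Cofree` are determined on the `csingle`s -/
theorem cofree_addHom_ext {P : Type*} [AddZeroClass P] {f f' : Cofree 𝒜 N →+ P}
    (h : ∀ g n, f (csingle 𝒜 N g n) = f' (csingle 𝒜 N g n)) : f = f' := by
  have : f.comp (toF 𝒜 N).symm.toAddMonoidHom = f'.comp (toF 𝒜 N).symm.toAddMonoidHom :=
    Finsupp.addHom_ext h
  ext x
  have := DFunLike.congr_fun this (toF 𝒜 N x)
  simpa using this

theorem cofree_induction {P : Cofree 𝒜 N → Prop} (h0 : P 0)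
    (hs : ∀ g n, P (csingle 𝒜 N g n)) (hadd : ∀ x y, P x → P y → P (x + y)) : ∀ x, P x := by
  intro x
  have : ∀ y : ι →₀ N, P ((toF 𝒜 N).symm y) := by
    intro y
    induction y using Finsupp.induction_linear with
    | zero => rw [map_zero]; exact h0
    | add x y hx hy => rw [map_add]; exact hadd _ _ hx hy
    | single g n => exact hs g n
  simpa using this (toF 𝒜 N x)

/-- action of a homogeneous element of degree `h` -/
noncomputable def phi (h : ι) : 𝒜 h →+ (Cofree 𝒜 N →+ Cofree 𝒜 N) where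
  toFun a := (toF 𝒜 N).symm.toAddMonoidHom.comp
    (((Finsupp.mapDomain.addMonoidHom (fun g => h + g)).comp
      (Finsupp.mapRange.addMonoidHom (DistribSMul.toAddMonoidHom N ((a : R))))).comp
        (toF 𝒜 N).toAddMonoidHom)
  map_zero' := by
    apply cofree_addHom_ext
    intro g n
    apply (toF 𝒜 N).injective
    simp [toF_csingle]
  map_add' a b := by
    apply cofree_addHom_ext
    intro g n
    apply (toF 𝒜 N).injective
    simp [toF_csingle, add_smul, Finsupp.mapDomain_add]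

theorem phi_csingle (h : ι) (a : 𝒜 h) (g : ι) (n : N) :
    phi 𝒜 N h a (csingle 𝒜 N g n) = csingle 𝒜 N (h + g) ((a : R) • n) := by
  apply (toF 𝒜 N).injective
  simp [phi, toF_csingle]

/-- the scalar action as a biadditive map -/
noncomputable def mu : R →+ (Cofree 𝒜 N →+ Cofree 𝒜 N) :=
  (DirectSum.toAddMonoid (phi 𝒜 N)).comp (DirectSum.decomposeAddEquiv 𝒜).toAddMonoidHom

theorem mu_homog {h : ι} {a : R} (ha : a ∈ 𝒜 h) (g : ι) (n : N) :
    mu 𝒜 N a (csingle 𝒜 N g n) = csingle 𝒜 N (h + g) (a • n) := by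
  unfold mu
  rw [AddMonoidHom.comp_apply]
  change (DirectSum.toAddMonoid (phi 𝒜 N)) (DirectSum.decompose 𝒜 a) (csingle 𝒜 N g n) = _
  rw [DirectSum.decompose_of_mem 𝒜 ha, DirectSum.toAddMonoid_of, phi_csingle]

theorem mu_one (x : Cofree 𝒜 N) : mu 𝒜 N 1 x = x := by
  have : mu 𝒜 N 1 = AddMonoidHom.id _ := by
    apply cofree_addHom_ext
    intro g n
    rw [mu_homog 𝒜 N (SetLike.GradedOne.one_mem) g n, zero_add, one_smul]
    rfl
  rw [this]; rfl

theorem mu_mul (a b : R) (x : Cofree 𝒜 N) : mu 𝒜 N (a * b) x = mu 𝒜 N a (mu 𝒜 N b x) := by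
  induction a using DirectSum.Decomposition.inductionOn 𝒜 with
  | zero => simp
  | @homogeneous h a =>
    obtain ⟨a, ha⟩ := a
    induction b using DirectSum.Decomposition.inductionOn 𝒜 with
    | zero => simp
    | @homogeneous h' b =>
      obtain ⟨b, hb⟩ := b
      induction x using cofree_induction 𝒜 N with
      | h0 => simp
      | hs g n =>
        rw [mu_homog 𝒜 N (SetLike.GradedMul.mul_mem ha hb), mu_homog 𝒜 N hb, mu_homog 𝒜 N ha,
          add_assoc, mul_smul]
      | hadd x y hx hy => rw [map_add, map_add, map_add, hx, hy]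
    | add b b' hb hb' =>
      rw [mul_add, map_add, AddMonoidHom.add_apply, hb, hb', map_add, AddMonoidHom.add_apply,
        map_add]
  | add a a' ha ha' =>
    rw [add_mul, map_add, AddMonoidHom.add_apply, ha, ha', map_add, AddMonoidHom.add_apply]

noncomputable instance : Module R (Cofree 𝒜 N) where
  smul r x := mu 𝒜 N r x
  one_smul := mu_one 𝒜 N
  mul_smul := mu_mul 𝒜 N
  smul_zero r := map_zero _
  smul_add r := map_add _
  add_smul r s x := by
    change mu 𝒜 N (r + s) x = mu 𝒜 N r x + mu 𝒜 N s x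
    rw [map_add, AddMonoidHom.add_apply]
  zero_smul x := by
    change mu 𝒜 N 0 x = 0
    rw [map_zero, AddMonoidHom.zero_apply]

theorem smul_def (r : R) (x : Cofree 𝒜 N) : r • x = mu 𝒜 N r x := rfl

theorem smul_csingle {h : ι} {a : R} (ha : a ∈ 𝒜 h) (g : ι) (n : N) :
    a • csingle 𝒜 N g n = csingle 𝒜 N (h + g) (a • n) := mu_homog 𝒜 N ha g n

/-! ### The grading -/

/-- pieces: elements concentrated in degree `g` -/
noncomputable def piece (g : ι) : AddSubgroup (Cofree 𝒜 N) := (csingle 𝒜 N g).range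

theorem csingle_mem_piece (g : ι) (n : N) : csingle 𝒜 N g n ∈ piece 𝒜 N g := ⟨n, rfl⟩

theorem mem_piece_iff {g : ι} {x : Cofree 𝒜 N} : x ∈ piece 𝒜 N g ↔ ∃ n, csingle 𝒜 N g n = x :=
  AddMonoidHom.mem_range

/-- decomposition map -/
noncomputable def decomp : Cofree 𝒜 N →+ ⨁ g, piece 𝒜 N g :=
  (Finsupp.liftAddHom (fun g => (DirectSum.of (fun g => piece 𝒜 N g) g).comp
    (csingle 𝒜 N g).rangeRestrict)).comp (toF 𝒜 N).toAddMonoidHom

theorem decomp_csingle (g : ι) (n : N) :
    decomp 𝒜 N (csingle 𝒜 N g n) =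
      DirectSum.of (fun g => piece 𝒜 N g) g ⟨csingle 𝒜 N g n, csingle_mem_piece 𝒜 N g n⟩ := by
  unfold decomp
  rw [AddMonoidHom.comp_apply]
  change Finsupp.liftAddHom _ (toF 𝒜 N (csingle 𝒜 N g n)) = _
  rw [toF_csingle, Finsupp.liftAddHom_apply_single]
  rfl

noncomputable instance : DirectSum.Decomposition (piece 𝒜 N) :=
  DirectSum.Decomposition.ofAddHom (piece 𝒜 N) (decomp 𝒜 N)
    (by
      apply cofree_addHom_ext
      intro g n
      rw [AddMonoidHom.comp_apply, decomp_csingle, DirectSum.coeAddMonoidHom_of]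
      rfl)
    (by
      apply DirectSum.addHom_ext
      intro g x
      obtain ⟨x, n, rfl⟩ := x
      rw [AddMonoidHom.comp_apply, DirectSum.coeAddMonoidHom_of]
      exact decomp_csingle 𝒜 N g n)

instance : SetLike.GradedSMul 𝒜 (piece 𝒜 N) where
  smul_mem := by
    intro h g a x ha hx
    obtain ⟨n, rfl⟩ := hx
    rw [smul_csingle 𝒜 N ha]
    exact csingle_mem_piece 𝒜 N _ _

/-- The cofree graded module as a bundled graded module. -/
noncomputable def cofreeGMod : GrLC.GMod.{u} 𝒜 := GrLC.GMod.of 𝒜 (Cofree 𝒜 N) (piece 𝒜 N)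

/-! ### The counit: sum of coefficients -/

/-- sum of the coefficients, additive -/
noncomputable def epsAdd : Cofree 𝒜 N →+ N :=
  (Finsupp.liftAddHom (fun _ : ι => AddMonoidHom.id N)).comp (toF 𝒜 N).toAddMonoidHom

theorem epsAdd_csingle (g : ι) (n : N) : epsAdd 𝒜 N (csingle 𝒜 N g n) = n := by
  unfold epsAdd
  rw [AddMonoidHom.comp_apply]
  change Finsupp.liftAddHom _ (toF 𝒜 N (csingle 𝒜 N g n)) = _
  rw [toF_csingle, Finsupp.liftAddHom_apply_single]
  rfl

theorem epsAdd_smul (r : R) (x : Cofree 𝒜 N) : epsAdd 𝒜 N (r • x) = r • epsAdd 𝒜 N x := by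
  induction r using DirectSum.Decomposition.inductionOn 𝒜 with
  | zero => simp
  | @homogeneous h a =>
    obtain ⟨a, ha⟩ := a
    induction x using cofree_induction 𝒜 N with
    | h0 => simp
    | hs g n => rw [smul_csingle 𝒜 N ha, epsAdd_csingle, epsAdd_csingle]
    | hadd x y hx hy => rw [smul_add, map_add, map_add, hx, hy, smul_add]
  | add a a' ha ha' => rw [add_smul, map_add, ha, ha', add_smul]

/-- sum of the coefficients, linear -/
noncomputable def eps : Cofree 𝒜 N →ₗ[R] N where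
  toFun := epsAdd 𝒜 N
  map_add' := map_add _
  map_smul' := epsAdd_smul 𝒜 N

theorem eps_csingle (g : ι) (n : N) : eps 𝒜 N (csingle 𝒜 N g n) = n := epsAdd_csingle 𝒜 N g n

/-! ### The adjunction: `ψ ↦ ψ♯` -/

section sharp

variable {N}
variable {B : Type u} [AddCommGroup B] [Module R B] (ℬ : ι → AddSubgroup B)
  [DirectSum.Decomposition ℬ] [SetLike.GradedSMul 𝒜 ℬ]

/-- `b ↦ ∑_k (ψ b_k at k)`, additive -/
noncomputable def sharpAdd (ψ : B →ₗ[R] N) : B →+ Cofree 𝒜 N :=
  (DirectSum.toAddMonoid (fun k => (csingle 𝒜 N k).comp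
    (ψ.toAddMonoidHom.comp (ℬ k).subtype))).comp (DirectSum.decomposeAddEquiv ℬ).toAddMonoidHom

theorem sharpAdd_of_mem (ψ : B →ₗ[R] N) {k : ι} {b : B} (hb : b ∈ ℬ k) :
    sharpAdd 𝒜 ℬ ψ b = csingle 𝒜 N k (ψ b) := by
  unfold sharpAdd
  rw [AddMonoidHom.comp_apply]
  change (DirectSum.toAddMonoid _) (DirectSum.decompose ℬ b) = _
  rw [DirectSum.decompose_of_mem ℬ hb, DirectSum.toAddMonoid_of]
  rfl

theorem sharpAdd_smul (ψ : B →ₗ[R] N) (r : R) (b : B) :
    sharpAdd 𝒜 ℬ ψ (r • b) = r • sharpAdd 𝒜 ℬ ψ b := by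
  induction r using DirectSum.Decomposition.inductionOn 𝒜 with
  | zero => simp
  | @homogeneous h a =>
    obtain ⟨a, ha⟩ := a
    induction b using DirectSum.Decomposition.inductionOn ℬ with
    | zero => simp
    | @homogeneous k b =>
      obtain ⟨b, hb⟩ := b
      have hab : a • b ∈ ℬ (h + k) := SetLike.GradedSMul.smul_mem ha hb
      rw [sharpAdd_of_mem 𝒜 ℬ ψ hab, sharpAdd_of_mem 𝒜 ℬ ψ hb, smul_csingle 𝒜 N ha, map_smul]
    | add b b' hb hb' => rw [smul_add, map_add, map_add, hb, hb', smul_add]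
  | add a a' ha ha' => rw [add_smul, map_add, ha, ha', add_smul]

/-- `ψ♯ : B → Cofree N`, the graded map adjoint to `ψ : B → N` -/
noncomputable def sharp (ψ : B →ₗ[R] N) : B →ₗ[R] Cofree 𝒜 N where
  toFun := sharpAdd 𝒜 ℬ ψ
  map_add' := map_add _
  map_smul' := sharpAdd_smul 𝒜 ℬ ψ

theorem sharp_of_mem (ψ : B →ₗ[R] N) {k : ι} {b : B} (hb : b ∈ ℬ k) :
    sharp 𝒜 ℬ ψ b = csingle 𝒜 N k (ψ b) := sharpAdd_of_mem 𝒜 ℬ ψ hb

theorem sharp_grHom (ψ : B →ₗ[R] N) : GrLC.IsGrHom ℬ (piece 𝒜 N) (sharp 𝒜 ℬ ψ) := by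
  intro k b hb
  rw [sharp_of_mem 𝒜 ℬ ψ hb]
  exact csingle_mem_piece 𝒜 N _ _

theorem eps_sharp (ψ : B →ₗ[R] N) (b : B) : eps 𝒜 N (sharp 𝒜 ℬ ψ b) = ψ b := by
  induction b using DirectSum.Decomposition.inductionOn ℬ with
  | zero => simp
  | @homogeneous k b =>
    obtain ⟨b, hb⟩ := b
    rw [sharp_of_mem 𝒜 ℬ ψ hb, eps_csingle]
  | add b b' hb hb' => rw [map_add, map_add, hb, hb', map_add]

theorem sharp_eps (g : B →ₗ[R] Cofree 𝒜 N) (hg : GrLC.IsGrHom ℬ (piece 𝒜 N) g) (b : B) :
    sharp 𝒜 ℬ ((eps 𝒜 N).comp g) b = g b := by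
  induction b using DirectSum.Decomposition.inductionOn ℬ with
  | zero => simp
  | @homogeneous k b =>
    obtain ⟨b, hb⟩ := b
    rw [sharp_of_mem 𝒜 ℬ _ hb]
    obtain ⟨n, hn⟩ := hg k b hb
    rw [LinearMap.comp_apply]
    change csingle 𝒜 N k (eps 𝒜 N (g b)) = g b
    rw [← hn, eps_csingle]
  | add b b' hb hb' => rw [map_add, map_add, hb, hb']

theorem coeff_sharp (ψ : B →ₗ[R] N) (b : B) (k : ι) :
    coeff 𝒜 N (sharp 𝒜 ℬ ψ b) k = ψ (DirectSum.decompose ℬ b k : B) := by
  induction b using DirectSum.Decomposition.inductionOn ℬ with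
  | zero => simp [coeff_zero]
  | @homogeneous j b =>
    obtain ⟨b, hb⟩ := b
    rw [sharp_of_mem 𝒜 ℬ ψ hb, coeff_csingle]
    by_cases hjk : j = k
    · subst hjk
      rw [if_pos rfl, DirectSum.decompose_of_mem_same ℬ hb]
    · rw [if_neg hjk, DirectSum.decompose_of_mem_ne ℬ hb hjk, map_zero]
  | add b b' hb hb' =>
    rw [map_add, coeff_add, hb, hb', DirectSum.decompose_add, DirectSum.add_apply,
      AddSubgroup.coe_add, map_add]

theorem sharp_injective (ψ : B →ₗ[R] N) (hψ : Function.Injective ψ) :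
    Function.Injective (sharp 𝒜 ℬ ψ) := by
  rw [injective_iff_map_eq_zero]
  intro b hb
  have h1 : ∀ k, (DirectSum.decompose ℬ b k : B) = 0 := by
    intro k
    apply hψ
    rw [← coeff_sharp 𝒜 ℬ ψ b k, hb, coeff_zero, map_zero]
  have : DirectSum.decompose ℬ b = 0 := by
    ext k
    rw [h1 k]
    simp
  simpa using congrArg (DirectSum.decompose ℬ).symm this

end sharp

/-! ### *Injectivity -/

theorem isStarInj_cofree [Module.Injective R N] : GrLC.IsStarInj 𝒜 (piece 𝒜 N) := by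
  intro A B f hf hfinj g hg
  obtain ⟨ψ, hψ⟩ := Module.Injective.out (R := R) (Q := N) f hfinj ((eps 𝒜 N).comp g)
  refine ⟨sharp 𝒜 B.gr ψ, sharp_grHom 𝒜 B.gr ψ, ?_⟩
  ext a
  rw [LinearMap.comp_apply, ← sharp_eps 𝒜 A.gr g hg a]
  induction a using DirectSum.Decomposition.inductionOn A.gr with
  | zero => simp
  | @homogeneous k a =>
    obtain ⟨a, ha⟩ := a
    rw [sharp_of_mem 𝒜 B.gr ψ (hf k a ha), sharp_of_mem 𝒜 A.gr _ ha, hψ]
  | add a a' ha ha' => rw [map_add, map_add, map_add, ha, ha']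

/-- Enough *injectives: every graded module embeds homogeneously in a *injective one. -/
theorem exists_starInj_embedding (M : Type u) [AddCommGroup M] [Module R M]
    (ℳ : ι → AddSubgroup M) [DirectSum.Decomposition ℳ] [SetLike.GradedSMul 𝒜 ℳ] :
    ∃ (Q : GrLC.GMod.{u} 𝒜) (f : M →ₗ[R] Q.carrier), GrLC.IsGrHom ℳ Q.gr f ∧
      Function.Injective f ∧ GrLC.IsStarInj 𝒜 Q.gr := by
  obtain ⟨I, _, _, _, j, hj⟩ : ∃ (I : Type u) (_ : AddCommGroup I) (_ : Module R I)
      (_ : Module.Injective R I) (j : M →ₗ[R] I), Function.Injective j := by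
    let X : ModuleCat.{u} R := ModuleCat.of R M
    let Y : ModuleCat.{u} R := CategoryTheory.Injective.under X
    have hinj : CategoryTheory.Injective Y := inferInstance
    refine ⟨(Y : Type u), inferInstance, inferInstance, ?_,
      (CategoryTheory.Injective.ι X).hom, ?_⟩
    · exact Module.injective_module_of_injective_object R Y
    · exact (ModuleCat.mono_iff_injective _).mp inferInstance
  exact ⟨cofreeGMod 𝒜 I, sharp 𝒜 ℳ j, sharp_grHom 𝒜 ℳ j, sharp_injective 𝒜 ℳ j hj,
    isStarInj_cofree 𝒜 I⟩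

end Groth.Agent.Lib.Helper66.GradedInj
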