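import Mathlib
import Groth.Prelude.Def_GrLC
import Groth.Agent.Lib.Helper66.Graded

/-!
# Quotients and sub-objects of graded modules by homogeneous submodules (helper66)
-/

set_option autoImplicit false
set_option linter.unusedSectionVars false
universe u

namespace Groth.Agent.Lib.Helper66.GradedQuot

open DirectSum

variable {ι : Type} [AddCommGroup ι] [DecidableEq ι]
variable {R : Type u} [CommRing R] (𝒜 : ι → AddSubgroup R) [GradedRing 𝒜]
variable {N : Type u} [AddCommGroup N] [Module R N] (𝒩 : ι → AddSubgroup N)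
  [DirectSum.Decomposition 𝒩] [SetLike.GradedSMul 𝒜 𝒩]
variable (P : Submodule R N)

/-! ### Quotient grading -/

/-- pieces of the quotient: images of the pieces -/
def qpiece (g : ι) : AddSubgroup (N ⧸ P) := (𝒩 g).map (P.mkQ : N →ₗ[R] N ⧸ P).toAddMonoidHom

theorem mk_mem_qpiece {g : ι} {y : N} (hy : y ∈ 𝒩 g) : P.mkQ y ∈ qpiece 𝒩 P g := ⟨y, hy, rfl⟩

/-- restriction of `mkQ` to pieces -/
def mkPiece (g : ι) : 𝒩 g →+ qpiece 𝒩 P g where
  toFun y := ⟨P.mkQ y.1, mk_mem_qpiece 𝒩 P y.2⟩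
  map_zero' := by ext; simp
  map_add' a b := by ext; simp

/-- `N → ⨁ (N/P)_g` -/
noncomputable def preDecomp : N →+ ⨁ g, qpiece 𝒩 P g :=
  (DirectSum.map (mkPiece 𝒩 P)).comp (DirectSum.decomposeAddEquiv 𝒩).toAddMonoidHom

theorem preDecomp_of_mem {g : ι} {y : N} (hy : y ∈ 𝒩 g) :
    preDecomp 𝒩 P y = DirectSum.of (fun g => qpiece 𝒩 P g) g ⟨P.mkQ y, mk_mem_qpiece 𝒩 P hy⟩ := by
  unfold preDecomp
  rw [AddMonoidHom.comp_apply]
  change DirectSum.map _ (DirectSum.decompose 𝒩 y) = _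
  rw [DirectSum.decompose_of_mem 𝒩 hy, DirectSum.map_of]
  rfl

theorem preDecomp_eq_zero (hP : P.IsHomogeneous 𝒩) {x : N} (hx : x ∈ P) :
    preDecomp 𝒩 P x = 0 := by
  classical
  rw [← DirectSum.sum_support_decompose 𝒩 x, map_sum]
  apply Finset.sum_eq_zero
  intro g _
  rw [preDecomp_of_mem 𝒩 P (SetLike.coe_mem _)]
  have : P.mkQ (DirectSum.decompose 𝒩 x g : N) = 0 := by
    rw [Submodule.mkQ_apply, Submodule.Quotient.mk_eq_zero]
    exact hP g hx
  have h2 : (⟨P.mkQ (DirectSum.decompose 𝒩 x g : N), mk_mem_qpiece 𝒩 P (SetLike.coe_mem _)⟩ :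
      qpiece 𝒩 P g) = 0 := Subtype.ext this
  rw [h2, map_zero]

/-- decomposition of the quotient -/
noncomputable def qDecomp (hP : P.IsHomogeneous 𝒩) : (N ⧸ P) →+ ⨁ g, qpiece 𝒩 P g :=
  QuotientAddGroup.lift P.toAddSubgroup (preDecomp 𝒩 P) (fun _ hx => preDecomp_eq_zero 𝒩 P hP hx)

theorem qDecomp_mk (hP : P.IsHomogeneous 𝒩) (x : N) :
    qDecomp 𝒩 P hP (P.mkQ x) = preDecomp 𝒩 P x := rfl

/-- The decomposition instance on the quotient by a homogeneous submodule. -/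
@[reducible] noncomputable def quotDecomposition (hP : P.IsHomogeneous 𝒩) :
    DirectSum.Decomposition (qpiece 𝒩 P) :=
  DirectSum.Decomposition.ofAddHom (qpiece 𝒩 P) (qDecomp 𝒩 P hP)
    (by
      ext x
      obtain ⟨x, rfl⟩ := P.mkQ_surjective x
      rw [AddMonoidHom.comp_apply, qDecomp_mk, AddMonoidHom.id_apply]
      induction x using DirectSum.Decomposition.inductionOn 𝒩 with
      | zero => simp
      | @homogeneous g y =>
        obtain ⟨y, hy⟩ := y
        rw [preDecomp_of_mem 𝒩 P hy, DirectSum.coeAddMonoidHom_of]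
      | add y y' hy hy' => rw [map_add, map_add, hy, hy', map_add])
    (by
      apply DirectSum.addHom_ext
      intro g x
      obtain ⟨x, y, hy, rfl⟩ := x
      rw [AddMonoidHom.comp_apply, DirectSum.coeAddMonoidHom_of]
      change qDecomp 𝒩 P hP (P.mkQ y) = _
      rw [qDecomp_mk, preDecomp_of_mem 𝒩 P hy]
      rfl)

/-- graded scalar multiplication on the quotient -/
theorem quotGradedSMul : SetLike.GradedSMul 𝒜 (qpiece 𝒩 P) where
  smul_mem := by
    intro h g a x ha hx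
    obtain ⟨y, hy, rfl⟩ := hx
    change a • P.mkQ y ∈ qpiece 𝒩 P (h + g)
    rw [← map_smul]
    exact mk_mem_qpiece 𝒩 P (SetLike.GradedSMul.smul_mem ha hy)

/-- The quotient as a bundled graded module. -/
noncomputable def quotGMod (hP : P.IsHomogeneous 𝒩) : GrLC.GMod.{u} 𝒜 :=
  letI := quotDecomposition 𝒩 P hP
  letI := quotGradedSMul 𝒜 𝒩 P
  GrLC.GMod.of 𝒜 (N ⧸ P) (qpiece 𝒩 P)

theorem mkQ_grHom : GrLC.IsGrHom 𝒩 (qpiece 𝒩 P) P.mkQ := fun _ _ hy => mk_mem_qpiece 𝒩 P hy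

end Groth.Agent.Lib.Helper66.GradedQuot
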