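import Mathlib
import Groth.Prelude.Def_GrLC
import Groth.Agent.Lib.Helper66.Graded
import Groth.Agent.Lib.Helper66.GradedQuot

/-!
Homogeneous submodules of graded modules (helper66): lattice closure properties, the induced
grading on a homogeneous submodule (`spiece`, `subGMod`), maps/comaps under graded homs,
retracts of *injectives, Zorn lemmas for maximal homogeneous complements.
-/

set_option autoImplicit false
universe u

namespace Groth.Agent.Lib.Helper66.GradedSub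

open DirectSum Groth.Agent.Lib.Helper66.Graded Groth.Agent.Lib.Helper66.GradedQuot

variable {ι : Type} [AddCommGroup ι] [DecidableEq ι]
variable {R : Type u} [CommRing R] (𝒜 : ι → AddSubgroup R) [GradedRing 𝒜]
variable {M : Type u} [AddCommGroup M] [Module R M] (ℳ : ι → AddSubgroup M) [Decomposition ℳ]
variable {N : Type u} [AddCommGroup N] [Module R N] (𝒩 : ι → AddSubgroup N) [Decomposition 𝒩]

/-! ### Lattice operations -/

omit [AddCommGroup ι] in
theorem bot_isHomogeneous : (⊥ : Submodule R N).IsHomogeneous 𝒩 := by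
  intro i x hx
  rw [Submodule.mem_bot] at hx
  subst hx
  simp

omit [AddCommGroup ι] in
theorem top_isHomogeneous : (⊤ : Submodule R N).IsHomogeneous 𝒩 := fun _ _ _ => Submodule.mem_top

omit [AddCommGroup ι] in
theorem inf_isHomogeneous {P P' : Submodule R N} (h : P.IsHomogeneous 𝒩)
    (h' : P'.IsHomogeneous 𝒩) : (P ⊓ P').IsHomogeneous 𝒩 :=
  fun i _ hx => ⟨h i hx.1, h' i hx.2⟩

omit [AddCommGroup ι] in
theorem sup_isHomogeneous {P P' : Submodule R N} (h : P.IsHomogeneous 𝒩)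
    (h' : P'.IsHomogeneous 𝒩) : (P ⊔ P').IsHomogeneous 𝒩 := by
  intro i x hx
  obtain ⟨y, hy, z, hz, rfl⟩ := Submodule.mem_sup.mp hx
  rw [decompose_add, DirectSum.add_apply, AddSubgroup.coe_add]
  exact Submodule.add_mem_sup (h i hy) (h' i hz)

omit [AddCommGroup ι] in
theorem sSup_isHomogeneous {S : Set (Submodule R N)} (h : ∀ P ∈ S, P.IsHomogeneous 𝒩) :
    (sSup S).IsHomogeneous 𝒩 := by
  intro i x hx
  rw [sSup_eq_iSup'] at hx ⊢
  induction hx using Submodule.iSup_induction' with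
  | mem j y hy => exact Submodule.mem_iSup_of_mem j (h j.1 j.2 i hy)
  | zero => simp
  | add y z _ _ hy hz =>
    rw [decompose_add, DirectSum.add_apply, AddSubgroup.coe_add]
    exact add_mem hy hz

omit [AddCommGroup ι] in
/-- A nonzero homogeneous submodule contains a nonzero homogeneous element. -/
theorem exists_homog_ne_zero {P : Submodule R N} (hP : P.IsHomogeneous 𝒩) (hne : P ≠ ⊥) :
    ∃ g, ∃ x ∈ P, x ∈ 𝒩 g ∧ x ≠ 0 := by
  obtain ⟨x, hx, hx0⟩ := Submodule.exists_mem_ne_zero_of_ne_bot hne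
  by_contra hcon
  push Not at hcon
  apply hx0
  have : decompose 𝒩 x = 0 := by
    ext i
    rw [hcon i _ (hP i hx) (SetLike.coe_mem _)]
    simp
  simpa using congrArg (decompose 𝒩).symm this

/-! ### Maps -/

omit [AddCommGroup ι] in
theorem comap_isHomogeneous (f : M →ₗ[R] N) (hf : GrLC.IsGrHom ℳ 𝒩 f) {P : Submodule R N}
    (hP : P.IsHomogeneous 𝒩) : (P.comap f).IsHomogeneous ℳ := by
  intro i m hm
  rw [Submodule.mem_comap] at hm ⊢
  rw [← decompose_grHom ℳ 𝒩 f hf]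
  exact hP i hm

omit [AddCommGroup ι] in
theorem map_isHomogeneous (f : M →ₗ[R] N) (hf : GrLC.IsGrHom ℳ 𝒩 f) {P : Submodule R M}
    (hP : P.IsHomogeneous ℳ) : (P.map f).IsHomogeneous 𝒩 := by
  rintro i _ ⟨m, hm, rfl⟩
  exact ⟨(decompose ℳ m i : M), hP i hm, (decompose_grHom ℳ 𝒩 f hf m i).symm⟩

omit [AddCommGroup ι] in
/-- An injective graded hom reflects degrees. -/
theorem mem_of_map_mem (f : M →ₗ[R] N) (hf : GrLC.IsGrHom ℳ 𝒩 f) (hinj : Function.Injective f)
    {g : ι} {m : M} (h : f m ∈ 𝒩 g) : m ∈ ℳ g := by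
  have key : ∀ i, i ≠ g → (decompose ℳ m i : M) = 0 := by
    intro i hi
    apply hinj
    rw [← decompose_grHom ℳ 𝒩 f hf, decompose_of_mem_ne 𝒩 h (Ne.symm hi), map_zero]
  have hm : (decompose ℳ m g : M) = m := by
    classical
    conv_rhs => rw [← DirectSum.sum_support_decompose ℳ m]
    symm
    apply Finset.sum_eq_single g
    · intro i _ hi
      exact key i hi
    · intro hg
      simpa using hg
  rw [← hm]
  exact SetLike.coe_mem _

omit [AddCommGroup ι] in
/-- The inverse of a bijective graded hom is graded. -/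
theorem symm_grHom (e : M ≃ₗ[R] N) (he : GrLC.IsGrHom ℳ 𝒩 e.toLinearMap) :
    GrLC.IsGrHom 𝒩 ℳ e.symm.toLinearMap := by
  intro g n hn
  apply mem_of_map_mem ℳ 𝒩 e.toLinearMap he e.injective
  simpa using hn

section span
variable [SetLike.GradedSMul 𝒜 𝒩]

include 𝒜 in
theorem span_singleton_isHomogeneous {g : ι} {z : N} (hz : z ∈ 𝒩 g) :
    (Submodule.span R {z}).IsHomogeneous 𝒩 := by
  intro i x hx
  obtain ⟨a, rfl⟩ := Submodule.mem_span_singleton.mp hx
  rw [decompose_smul_of_mem 𝒜 𝒩 hz]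
  exact Submodule.smul_mem _ _ (Submodule.mem_span_singleton_self z)

end span

/-! ### Retracts of *injectives -/

theorem isStarInj_of_retract [SetLike.GradedSMul 𝒜 ℳ] [SetLike.GradedSMul 𝒜 𝒩]
    (hN : GrLC.IsStarInj 𝒜 𝒩) (f : M →ₗ[R] N) (hf : GrLC.IsGrHom ℳ 𝒩 f)
    (π : N →ₗ[R] M) (hπ : GrLC.IsGrHom 𝒩 ℳ π) (hπf : π ∘ₗ f = LinearMap.id) :
    GrLC.IsStarInj 𝒜 ℳ := by
  intro A B φ hφ hφi g hg
  obtain ⟨h, hh, hhφ⟩ := hN A B φ hφ hφi (f ∘ₗ g) (fun i a ha => hf i _ (hg i a ha))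
  refine ⟨π ∘ₗ h, fun i b hb => hπ i _ (hh i b hb), ?_⟩
  rw [LinearMap.comp_assoc, hhφ, ← LinearMap.comp_assoc, hπf, LinearMap.id_comp]

/-! ### The induced grading on a homogeneous submodule -/

section sub
variable (P : Submodule R N)

/-- pieces of the submodule -/
def spiece (g : ι) : AddSubgroup P := (𝒩 g).comap (P.subtype : P →ₗ[R] N).toAddMonoidHom

omit [AddCommGroup ι] [DecidableEq ι] [Decomposition 𝒩] in
theorem mem_spiece {g : ι} {x : P} : x ∈ spiece 𝒩 P g ↔ (x : N) ∈ 𝒩 g := Iff.rfl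

/-- inclusion of pieces -/
def inclPiece (g : ι) : spiece 𝒩 P g →+ 𝒩 g where
  toFun x := ⟨(x.1 : N), x.2⟩
  map_zero' := rfl
  map_add' _ _ := rfl

omit [AddCommGroup ι] in
theorem sub_isInternal (hP : P.IsHomogeneous 𝒩) : DirectSum.IsInternal (spiece 𝒩 P) := by
  classical
  have hcomm : ∀ y : ⨁ g, spiece 𝒩 P g,
      DirectSum.coeAddMonoidHom 𝒩 (DirectSum.map (inclPiece 𝒩 P) y) =
        ((DirectSum.coeAddMonoidHom (spiece 𝒩 P) y : P) : N) := by
    intro y
    induction y using DirectSum.induction_on with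
    | zero => simp
    | of g x =>
      rw [DirectSum.map_of, DirectSum.coeAddMonoidHom_of, DirectSum.coeAddMonoidHom_of]
      rfl
    | add y y' hy hy' => rw [map_add, map_add, map_add, hy, hy', Submodule.coe_add]
  constructor
  · intro y y' hyy'
    have h1 : DirectSum.map (inclPiece 𝒩 P) y = DirectSum.map (inclPiece 𝒩 P) y' := by
      apply (Decomposition.isInternal 𝒩).1
      rw [hcomm, hcomm, hyy']
    refine (DirectSum.map_injective (f := inclPiece 𝒩 P)).mpr ?_ h1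
    intro g a b hab
    apply Subtype.ext
    apply Subtype.ext
    exact congrArg (fun z : 𝒩 g => (z : N)) hab
  · intro x
    refine ⟨∑ i ∈ (decompose 𝒩 (x : N)).support,
      DirectSum.of (fun g => spiece 𝒩 P g) i
        ⟨⟨(decompose 𝒩 (x : N) i : N), hP i x.2⟩,
          (show (decompose 𝒩 (x : N) i : N) ∈ 𝒩 i from SetLike.coe_mem _)⟩, ?_⟩
    apply Subtype.ext
    rw [map_sum]
    simp only [DirectSum.coeAddMonoidHom_of]
    rw [AddSubmonoidClass.coe_finsetSum]
    exact DirectSum.sum_support_decompose 𝒩 (x : N)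

/-- The decomposition instance on a homogeneous submodule. -/
@[reducible] noncomputable def subDecomposition (hP : P.IsHomogeneous 𝒩) :
    DirectSum.Decomposition (spiece 𝒩 P) :=
  (sub_isInternal 𝒩 P hP).chooseDecomposition

omit [DecidableEq ι] [Decomposition 𝒩] in
theorem subGradedSMul [SetLike.GradedSMul 𝒜 𝒩] : SetLike.GradedSMul 𝒜 (spiece 𝒩 P) where
  smul_mem := by
    intro h g a x ha hx
    exact SetLike.GradedSMul.smul_mem (A := 𝒜) (B := 𝒩) ha hx

/-- A homogeneous submodule as a bundled graded module. -/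
noncomputable def subGMod [SetLike.GradedSMul 𝒜 𝒩] (hP : P.IsHomogeneous 𝒩) : GrLC.GMod.{u} 𝒜 :=
  letI := subDecomposition 𝒩 P hP
  letI := subGradedSMul 𝒜 𝒩 P
  GrLC.GMod.of 𝒜 P (spiece 𝒩 P)

omit [AddCommGroup ι] [DecidableEq ι] [Decomposition 𝒩] in
theorem subtype_grHom : GrLC.IsGrHom (spiece 𝒩 P) 𝒩 P.subtype := fun _ _ hx => hx

end sub

/-! ### Zorn lemmas -/

omit [AddCommGroup ι] in
/-- Zorn: a maximal homogeneous submodule disjoint from `K`. -/
theorem exists_max_disjoint (K : Submodule R N) :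
    ∃ P : Submodule R N, P.IsHomogeneous 𝒩 ∧ P ⊓ K = ⊥ ∧
      ∀ P' : Submodule R N, P'.IsHomogeneous 𝒩 → P ≤ P' → P' ⊓ K = ⊥ → P' = P := by
  obtain ⟨P, hPmax⟩ := zorn_le₀ {P : Submodule R N | P.IsHomogeneous 𝒩 ∧ P ⊓ K = ⊥} (by
    intro c hc hchain
    rcases c.eq_empty_or_nonempty with rfl | hne
    · exact ⟨⊥, ⟨bot_isHomogeneous 𝒩, bot_inf_eq K⟩, fun z hz => absurd hz (Set.notMem_empty z)⟩
    · refine ⟨sSup c, ⟨sSup_isHomogeneous 𝒩 (fun P hP => (hc hP).1), ?_⟩, fun z hz => le_sSup hz⟩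
      rw [eq_bot_iff]
      rintro x ⟨hx1, hx2⟩
      obtain ⟨y, hy, hxy⟩ := (Submodule.mem_sSup_of_directed hne hchain.directedOn).mp hx1
      rw [← (hc hy).2]
      exact ⟨hxy, hx2⟩)
  refine ⟨P, hPmax.prop.1, hPmax.prop.2, fun P' hP' hle hd => ?_⟩
  exact le_antisymm (hPmax.le_of_ge ⟨hP', hd⟩ hle) hle

/-- `E` is a *essential extension of `K` inside the ambient graded module. -/
def StarEssIn (K E : Submodule R N) : Prop :=
  ∀ P : Submodule R N, P.IsHomogeneous 𝒩 → P ≤ E → P ≠ ⊥ → P ⊓ K ≠ ⊥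

omit [AddCommGroup ι] in
theorem starEssIn_self (K : Submodule R N) : StarEssIn 𝒩 K K := by
  intro P _ hle hne
  rwa [inf_eq_left.mpr hle]

include 𝒜 in
/-- Zorn: a maximal *essential extension of `K` inside the ambient graded module. -/
theorem exists_max_starEssIn [SetLike.GradedSMul 𝒜 𝒩] (K : Submodule R N)
    (hK : K.IsHomogeneous 𝒩) :
    ∃ E : Submodule R N, E.IsHomogeneous 𝒩 ∧ K ≤ E ∧ StarEssIn 𝒩 K E ∧
      ∀ E' : Submodule R N, E'.IsHomogeneous 𝒩 → E ≤ E' → StarEssIn 𝒩 K E' → E' = E := by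
  obtain ⟨E, hEmax⟩ := zorn_le₀
    {E : Submodule R N | E.IsHomogeneous 𝒩 ∧ K ≤ E ∧ StarEssIn 𝒩 K E} (by
    intro c hc hchain
    rcases c.eq_empty_or_nonempty with rfl | hne
    · exact ⟨K, ⟨hK, le_rfl, starEssIn_self 𝒩 K⟩, fun z hz => absurd hz (Set.notMem_empty z)⟩
    · refine ⟨sSup c, ⟨sSup_isHomogeneous 𝒩 (fun P hP => (hc hP).1), ?_, ?_⟩,
        fun z hz => le_sSup hz⟩
      · obtain ⟨E₀, hE₀⟩ := hne
        exact le_trans (hc hE₀).2.1 (le_sSup hE₀)
      · intro P hP hle hP0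
        obtain ⟨g, x, hxP, hxg, hx0⟩ := exists_homog_ne_zero 𝒩 hP hP0
        obtain ⟨E₁, hE₁, hxE₁⟩ :=
          (Submodule.mem_sSup_of_directed hne hchain.directedOn).mp (hle hxP)
        have h1 := (hc hE₁).2.2 (Submodule.span R {x}) (span_singleton_isHomogeneous 𝒜 𝒩 hxg)
          ((Submodule.span_singleton_le_iff_mem x E₁).mpr hxE₁)
          (fun h => hx0 ((Submodule.span_singleton_eq_bot).mp h))
        intro h2
        apply h1
        rw [eq_bot_iff, ← h2]
        exact inf_le_inf_right K ((Submodule.span_singleton_le_iff_mem x P).mpr hxP))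
  refine ⟨E, hEmax.prop.1, hEmax.prop.2.1, hEmax.prop.2.2, fun E' hE' hle hd => ?_⟩
  exact le_antisymm (hEmax.le_of_ge ⟨hE', le_trans hEmax.prop.2.1 hle, hd⟩ hle) hle

/-! ### Quotient by a maximal disjoint submodule is *essential -/

omit [Decomposition ℳ] in
theorem starEss_mkQ_comp [SetLike.GradedSMul 𝒜 𝒩] (f : M →ₗ[R] N) (hf : GrLC.IsGrHom ℳ 𝒩 f)
    (hinj : Function.Injective f) (P : Submodule R N) (hP : P.IsHomogeneous 𝒩)
    (hdisj : P ⊓ LinearMap.range f = ⊥)
    (hmax : ∀ P' : Submodule R N, P'.IsHomogeneous 𝒩 → P ≤ P' →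
      P' ⊓ LinearMap.range f = ⊥ → P' = P) :
    GrLC.IsStarEss ℳ (quotGMod 𝒜 𝒩 P hP).gr
      (show M →ₗ[R] (quotGMod 𝒜 𝒩 P hP).carrier from P.mkQ ∘ₗ f) := by
  let _ := quotDecomposition 𝒩 P hP
  have key : GrLC.IsStarEss ℳ (qpiece 𝒩 P) (P.mkQ ∘ₗ f) := by
    refine ⟨?_, fun g m hm => mkQ_grHom 𝒩 P g _ (hf g m hm), ?_⟩
    · intro m m' hmm'
      apply hinj
      rw [← sub_eq_zero, ← map_sub]
      have h1 : f (m - m') ∈ P ⊓ LinearMap.range f := by
        refine ⟨?_, ⟨_, rfl⟩⟩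
        change f (m - m') ∈ P
        rw [← Submodule.Quotient.mk_eq_zero, map_sub, Submodule.Quotient.mk_sub, sub_eq_zero]
        exact hmm'
      rw [hdisj] at h1
      exact (Submodule.mem_bot R).mp h1
    · intro P'' hP'' hne
      have hcm : (P''.comap P.mkQ).IsHomogeneous 𝒩 :=
        comap_isHomogeneous 𝒩 (qpiece 𝒩 P) P.mkQ (mkQ_grHom 𝒩 P) hP''
      have hle : P ≤ P''.comap P.mkQ := by
        intro x hx
        rw [Submodule.mem_comap, Submodule.mkQ_apply, (Submodule.Quotient.mk_eq_zero P).mpr hx]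
        exact zero_mem _
      have hneq : P''.comap P.mkQ ≠ P := by
        intro heq
        apply hne
        rw [eq_bot_iff]
        intro y hy
        obtain ⟨x, rfl⟩ := P.mkQ_surjective y
        have : x ∈ P''.comap P.mkQ := hy
        rw [heq] at this
        rw [Submodule.mem_bot, Submodule.mkQ_apply, Submodule.Quotient.mk_eq_zero]
        exact this
      have hmeet : P''.comap P.mkQ ⊓ LinearMap.range f ≠ ⊥ := fun h => hneq (hmax _ hcm hle h)
      obtain ⟨x, ⟨hx1, hx2⟩, hx0⟩ := Submodule.exists_mem_ne_zero_of_ne_bot hmeet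
      obtain ⟨m, rfl⟩ := hx2
      intro hbot
      have hmem : P.mkQ (f m) ∈ P'' ⊓ LinearMap.range (P.mkQ ∘ₗ f) := ⟨hx1, ⟨m, rfl⟩⟩
      rw [hbot, Submodule.mem_bot, Submodule.mkQ_apply, Submodule.Quotient.mk_eq_zero] at hmem
      have : f m ∈ P ⊓ LinearMap.range f := ⟨hmem, ⟨m, rfl⟩⟩
      rw [hdisj] at this
      exact hx0 ((Submodule.mem_bot R).mp this)
  exact key

end Groth.Agent.Lib.Helper66.GradedSub
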