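import Mathlib
import Groth.Prelude.Def_GrLC
import Groth.Agent.Lib.Helper66.Graded

/-!
Homogeneous generators of finitely generated graded modules and homogeneous coefficients
(helper66).
-/

set_option autoImplicit false
universe u

namespace Groth.Agent.Lib.Helper66.GradedGen

open DirectSum Groth.Agent.Lib.Helper66.Graded

variable {ι : Type} [AddCommGroup ι] [DecidableEq ι]
variable {R : Type u} [CommRing R] (𝒜 : ι → AddSubgroup R) [GradedRing 𝒜]
variable {N : Type u} [AddCommGroup N] [Module R N] (𝒩 : ι → AddSubgroup N) [Decomposition 𝒩]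
  [SetLike.GradedSMul 𝒜 𝒩]

/-- A homogeneous element in the span of homogeneous elements is a combination with homogeneous
coefficients of the complementary degrees. -/
theorem exists_homog_coeff {J : Type*} [Fintype J] (k : J → N) (e : J → ι)
    (hk : ∀ j, k j ∈ 𝒩 (e j)) {g : ι} {x : N} (hx : x ∈ 𝒩 g)
    (hxs : x ∈ Submodule.span R (Set.range k)) :
    ∃ a : J → R, (∀ j, a j ∈ 𝒜 (g - e j)) ∧ x = ∑ j, a j • k j := by
  obtain ⟨c, hc⟩ := (Submodule.mem_span_range_iff_exists_fun R).mp hxs
  refine ⟨fun j => (decompose 𝒜 (c j) (g - e j) : R), fun j => SetLike.coe_mem _, ?_⟩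
  have h1 : (decompose 𝒩 x g : N) = x := decompose_of_mem_same 𝒩 hx
  rw [← h1, ← hc, decompose_sum]
  rw [DFinsupp.finset_sum_apply, AddSubmonoidClass.coe_finsetSum]
  exact Finset.sum_congr rfl (fun j _ => decompose_smul_of_mem 𝒜 𝒩 (hk j) (c j) g)

omit [SetLike.GradedSMul 𝒜 𝒩] in
/-- A finitely generated graded module has a finite family of homogeneous generators. -/
theorem exists_homog_generators [Module.Finite R N] :
    ∃ (J : Type u) (_ : Fintype J) (k : J → N) (e : J → ι),
      (∀ j, k j ∈ 𝒩 (e j)) ∧ Submodule.span R (Set.range k) = ⊤ := by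
  classical
  obtain ⟨S, hS⟩ := (Module.Finite.fg_top : (⊤ : Submodule R N).FG)
  let S' : Finset N := S.biUnion (fun x => (decompose 𝒩 x).support.image
    (fun g => (decompose 𝒩 x g : N)))
  have hS' : ∀ y ∈ S', ∃ g, y ∈ 𝒩 g := by
    intro y hy
    obtain ⟨x, _, hy⟩ := Finset.mem_biUnion.mp hy
    obtain ⟨g, _, rfl⟩ := Finset.mem_image.mp hy
    exact ⟨g, SetLike.coe_mem _⟩
  refine ⟨{y // y ∈ S'}, inferInstance, fun y => y.1, fun y => Classical.choose (hS' y.1 y.2),
    fun y => Classical.choose_spec (hS' y.1 y.2), ?_⟩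
  rw [eq_top_iff, ← hS, Submodule.span_le]
  intro x hx
  rw [← DirectSum.sum_support_decompose 𝒩 x]
  apply Submodule.sum_mem
  intro g hg
  apply Submodule.subset_span
  refine ⟨⟨(decompose 𝒩 x g : N), ?_⟩, rfl⟩
  exact Finset.mem_biUnion.mpr ⟨x, hx, Finset.mem_image.mpr ⟨g, hg, rfl⟩⟩

end Groth.Agent.Lib.Helper66.GradedGen
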