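import Mathlib
import Groth.Prelude.Def_GrLC

/-!
Shifted graded modules (helper66; the construction follows helper62's `shiftGMod` in S13219):
`shiftGMod 𝒜 𝓔 g` has the same carrier and pieces `k ↦ 𝓔 (g + k)`.
-/

set_option autoImplicit false
universe u

namespace Groth.Agent.Lib.Helper66.GradedShift

variable {ι : Type} [AddCommGroup ι] [DecidableEq ι] {R : Type u} [CommRing R]
  (𝒜 : ι → AddSubgroup R) [GradedRing 𝒜]
  {E : Type u} [AddCommGroup E] [Module R E] (𝓔 : ι → AddSubgroup E) [DirectSum.Decomposition 𝓔]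
  [SetLike.GradedSMul 𝒜 𝓔]

/-- the shifted family of pieces -/
abbrev shiftGr (g : ι) : ι → AddSubgroup E := fun k => 𝓔 ((Equiv.addLeft g).symm.symm k)

omit [DirectSum.Decomposition 𝓔] [SetLike.GradedSMul 𝒜 𝓔] in
theorem mem_shiftGr (g k : ι) (x : E) : x ∈ shiftGr 𝓔 g k ↔ x ∈ 𝓔 (g + k) := Iff.rfl

omit [SetLike.GradedSMul 𝒜 𝓔] in
theorem coe_shift_eq (g : ι) (z : DirectSum ι fun k => shiftGr 𝓔 g k) :
    DirectSum.coeAddMonoidHom 𝓔 ((DirectSum.equivCongrLeft (Equiv.addLeft g).symm).symm z) =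
      DirectSum.coeAddMonoidHom (shiftGr 𝓔 g) z := by
  induction z using DirectSum.induction_on with
  | zero => rw [map_zero, map_zero, map_zero]
  | of k x =>
    have h1 := DirectSum.equivCongrLeft_of (β := fun i => 𝓔 i) (Equiv.addLeft g).symm k x
    have h2 : (DirectSum.equivCongrLeft (Equiv.addLeft g).symm).symm
        (DirectSum.of (fun k => shiftGr 𝓔 g k) k x) =
        DirectSum.of (fun i => 𝓔 i) ((Equiv.addLeft g).symm.symm k) x := by
      rw [AddEquiv.symm_apply_eq]
      exact h1.symm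
    rw [h2, DirectSum.coeAddMonoidHom_of, DirectSum.coeAddMonoidHom_of]
  | add z w hz hw => rw [map_add, map_add, map_add, hz, hw]

omit [SetLike.GradedSMul 𝒜 𝓔] in
theorem shift_isInternal (g : ι) : DirectSum.IsInternal (shiftGr 𝓔 g) := by
  have h : ⇑(DirectSum.coeAddMonoidHom (shiftGr 𝓔 g)) =
      ⇑(DirectSum.coeAddMonoidHom 𝓔) ∘ ⇑(DirectSum.equivCongrLeft (Equiv.addLeft g).symm).symm := by
    funext z
    exact (coe_shift_eq 𝓔 g z).symm
  unfold DirectSum.IsInternal
  rw [h]
  exact (DirectSum.Decomposition.isInternal 𝓔).comp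
    (DirectSum.equivCongrLeft (Equiv.addLeft g).symm).symm.bijective

/-- the shifted graded module: same carrier, pieces `k ↦ 𝓔 (g + k)` -/
noncomputable def shiftGMod (g : ι) : GrLC.GMod.{u} 𝒜 :=
  { carrier := E
    gr := shiftGr 𝓔 g
    dec := (shift_isInternal 𝓔 g).chooseDecomposition
    gsmul := ⟨by
      intro i j r m hr hm
      rw [mem_shiftGr] at hm ⊢
      have := SetLike.GradedSMul.smul_mem (A := 𝒜) (B := 𝓔) hr hm
      rw [vadd_eq_add] at this ⊢
      rwa [add_left_comm] at this⟩ }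

end Groth.Agent.Lib.Helper66.GradedShift
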