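import Mathlib
import Groth.Prelude.Def_GrLC
import Groth.Agent.Lib.Helper66.Graded
import Groth.Agent.Lib.Helper66.GradedShift
import Groth.Agent.Lib.Helper66.GradedGen

/-!
Homogeneous components of a linear map between graded modules, and extension of arbitrary linear
maps from finitely generated graded modules into *injective modules (helper66).
-/

set_option autoImplicit false
universe u

namespace Groth.Agent.Lib.Helper66.GradedHomDec

open DirectSum Groth.Agent.Lib.Helper66.Graded Groth.Agent.Lib.Helper66.GradedShift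
  Groth.Agent.Lib.Helper66.GradedGen

variable {ι : Type} [AddCommGroup ι] [DecidableEq ι]
variable {R : Type u} [CommRing R] (𝒜 : ι → AddSubgroup R) [GradedRing 𝒜]
variable {K : Type u} [AddCommGroup K] [Module R K] (𝒦 : ι → AddSubgroup K) [Decomposition 𝒦]
  [SetLike.GradedSMul 𝒜 𝒦]
variable {I : Type u} [AddCommGroup I] [Module R I] (ℐ : ι → AddSubgroup I) [Decomposition ℐ]
  [SetLike.GradedSMul 𝒜 ℐ]

/-- projection to the degree `i` component, as an additive map -/
def projAdd (i : ι) : I →+ I :=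
  (ℐ i).subtype.comp ((DFinsupp.evalAddMonoidHom i).comp (decomposeAddEquiv ℐ).toAddMonoidHom)

omit [AddCommGroup ι] in
theorem projAdd_apply (i : ι) (y : I) : projAdd ℐ i y = (decompose ℐ y i : I) := rfl

/-- the degree `d` component of a linear map, as an additive map -/
def compAdd (φ : K →ₗ[R] I) (d : ι) : K →+ I :=
  (DirectSum.toAddMonoid (fun g => ((projAdd ℐ (d + g)).comp φ.toAddMonoidHom).comp
    (𝒦 g).subtype)).comp (decomposeAddEquiv 𝒦).toAddMonoidHom

theorem compAdd_of_mem (φ : K →ₗ[R] I) (d : ι) {g : ι} {x : K} (hx : x ∈ 𝒦 g) :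
    compAdd 𝒦 ℐ φ d x = (decompose ℐ (φ x) (d + g) : I) := by
  unfold compAdd
  rw [AddMonoidHom.comp_apply]
  change DirectSum.toAddMonoid _ (decompose 𝒦 x) = _
  rw [decompose_of_mem 𝒦 hx, DirectSum.toAddMonoid_of]
  rfl

include 𝒜 in
theorem compAdd_smul (φ : K →ₗ[R] I) (d : ι) (r : R) (x : K) :
    compAdd 𝒦 ℐ φ d (r • x) = r • compAdd 𝒦 ℐ φ d x := by
  induction r using DirectSum.Decomposition.inductionOn 𝒜 with
  | zero => simp
  | @homogeneous h a =>
    obtain ⟨a, ha⟩ := a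
    induction x using DirectSum.Decomposition.inductionOn 𝒦 with
    | zero => simp
    | @homogeneous g x =>
      obtain ⟨x, hx⟩ := x
      have hax : a • x ∈ 𝒦 (h + g) := SetLike.GradedSMul.smul_mem ha hx
      rw [compAdd_of_mem 𝒦 ℐ φ d hax, compAdd_of_mem 𝒦 ℐ φ d hx, map_smul]
      have e : d + (h + g) = h + (d + g) := by abel
      rw [e]
      exact decompose_smul_homog 𝒜 ℐ ha (φ x) (d + g)
    | add x x' hx hx' => rw [smul_add, map_add, map_add, hx, hx', smul_add]
  | add r r' hr hr' => rw [add_smul, map_add, hr, hr', add_smul]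

/-- the degree `d` component of a linear map -/
def hcomp (φ : K →ₗ[R] I) (d : ι) : K →ₗ[R] I where
  toFun := compAdd 𝒦 ℐ φ d
  map_add' := map_add _
  map_smul' := compAdd_smul 𝒜 𝒦 ℐ φ d

theorem hcomp_of_mem (φ : K →ₗ[R] I) (d : ι) {g : ι} {x : K} (hx : x ∈ 𝒦 g) :
    hcomp 𝒜 𝒦 ℐ φ d x = (decompose ℐ (φ x) (d + g) : I) := compAdd_of_mem 𝒦 ℐ φ d hx

theorem hcomp_mem (φ : K →ₗ[R] I) (d : ι) {g : ι} {x : K} (hx : x ∈ 𝒦 g) :
    hcomp 𝒜 𝒦 ℐ φ d x ∈ ℐ (d + g) := by
  rw [hcomp_of_mem 𝒜 𝒦 ℐ φ d hx]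
  exact SetLike.coe_mem _

/-- If the degrees of `φ` lie in the finite set `D`, then `φ` is the sum of its components. -/
theorem sum_hcomp (φ : K →ₗ[R] I) (D : Finset ι)
    (hD : ∀ (g : ι) (x : K), x ∈ 𝒦 g → ∀ i, (decompose ℐ (φ x) i : I) ≠ 0 → i - g ∈ D) :
    ∑ d ∈ D, hcomp 𝒜 𝒦 ℐ φ d = φ := by
  classical
  ext x
  rw [LinearMap.sum_apply]
  induction x using DirectSum.Decomposition.inductionOn 𝒦 with
  | zero => simp
  | @homogeneous g x =>
    obtain ⟨x, hx⟩ := x
    have h1 : ∀ d ∈ D, hcomp 𝒜 𝒦 ℐ φ d x = (decompose ℐ (φ x) (d + g) : I) :=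
      fun d _ => hcomp_of_mem 𝒜 𝒦 ℐ φ d hx
    rw [Finset.sum_congr rfl h1]
    have h2 : ∑ d ∈ D, (decompose ℐ (φ x) (d + g) : I) =
        ∑ i ∈ D.image (fun d => d + g), (decompose ℐ (φ x) i : I) := by
      rw [Finset.sum_image]
      intro a _ b _ hab
      exact add_right_cancel hab
    rw [h2]
    conv_rhs => rw [← DirectSum.sum_support_decompose ℐ (φ x)]
    symm
    apply Finset.sum_subset
    · intro i hi
      rw [DFinsupp.mem_support_toFun] at hi
      have hi' : (decompose ℐ (φ x) i : I) ≠ 0 := fun h => hi (Subtype.ext h)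
      exact Finset.mem_image.mpr ⟨i - g, hD g x hx i hi', sub_add_cancel i g⟩
    · intro i _ hi
      rw [DFinsupp.mem_support_toFun, not_not] at hi
      rw [hi]
      rfl
  | add x x' hx hx' =>
    simp only [map_add, Finset.sum_add_distrib, hx, hx']

/-- Over a graded ring, every linear map from a finitely generated graded module `K` into a
*injective module extends along any injective graded hom `K → F`. -/
theorem exists_extension (Kg F : GrLC.GMod.{u} 𝒜) (j : Kg.carrier →ₗ[R] F.carrier)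
    (hj : GrLC.IsGrHom Kg.gr F.gr j) (hinj : Function.Injective j) [Module.Finite R Kg.carrier]
    (hI : GrLC.IsStarInj 𝒜 ℐ) (φ : Kg.carrier →ₗ[R] I) :
    ∃ ψ : F.carrier →ₗ[R] I, ψ ∘ₗ j = φ := by
  classical
  obtain ⟨J, _, k, e, hk, hspan⟩ := exists_homog_generators (R := R) Kg.gr
  let D : Finset ι := Finset.univ.biUnion
    (fun j' : J => (decompose ℐ (φ (k j'))).support.image (fun i => i - e j'))
  have hD : ∀ (g : ι) (x : Kg.carrier), x ∈ Kg.gr g →
      ∀ i, (decompose ℐ (φ x) i : I) ≠ 0 → i - g ∈ D := by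
    intro g x hx i hi
    obtain ⟨a, ha, rfl⟩ := exists_homog_coeff 𝒜 Kg.gr k e hk hx (by rw [hspan]; trivial)
    by_contra hcon
    apply hi
    rw [map_sum, decompose_sum, DFinsupp.finsetSum_apply, AddSubmonoidClass.coe_finsetSum]
    apply Finset.sum_eq_zero
    intro j' _
    rw [map_smul]
    have h1 := decompose_smul_homog 𝒜 ℐ (ha j') (φ (k j')) (i - (g - e j'))
    rw [add_sub_cancel] at h1
    rw [h1]
    have hz : (decompose ℐ (φ (k j')) (i - (g - e j')) : I) = 0 := by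
      by_contra hne
      apply hcon
      refine Finset.mem_biUnion.mpr ⟨j', Finset.mem_univ _,
        Finset.mem_image.mpr ⟨i - (g - e j'), ?_, by abel⟩⟩
      rw [DFinsupp.mem_support_toFun]
      intro h
      exact hne (by rw [h]; rfl)
    rw [hz, smul_zero]
  have hext : ∀ d : ι, ∃ ψ : F.carrier →ₗ[R] I, ψ ∘ₗ j = hcomp 𝒜 Kg.gr ℐ φ d := by
    intro d
    obtain ⟨ψ, -, hψ⟩ := hI (shiftGMod 𝒜 Kg.gr (-d)) (shiftGMod 𝒜 F.gr (-d)) j
      (fun g x hx => hj _ x hx) hinj (hcomp 𝒜 Kg.gr ℐ φ d) (by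
        intro g x hx
        have h2 := hcomp_mem 𝒜 Kg.gr ℐ φ d (show x ∈ Kg.gr (-d + g) from hx)
        rwa [add_neg_cancel_left] at h2)
    exact ⟨ψ, hψ⟩
  choose ψ hψ using hext
  refine ⟨∑ d ∈ D, ψ d, ?_⟩
  have h3 : (∑ d ∈ D, ψ d) ∘ₗ j = ∑ d ∈ D, (ψ d ∘ₗ j) := by
    ext x
    simp only [LinearMap.comp_apply, LinearMap.sum_apply]
  rw [h3, Finset.sum_congr rfl (fun d _ => hψ d)]
  exact sum_hcomp 𝒜 Kg.gr ℐ φ D hD

end Groth.Agent.Lib.Helper66.GradedHomDec
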