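import Mathlib
import Groth.Prelude.Def_GrLC
import Groth.Agent.Lib.Helper41.LCTorsion

/-!
Local cohomology computed from a `Γ_I`-acyclic resolution (helper66), on top of helper41's
element-level API for Mathlib's `localCohomology`: if `0 → M → X 0 → X 1 → …` is exact and
`H^j_I(X n) = 0` for `j ≥ 1`, then `H^i_I(M)` is the `i`-th cohomology of `Γ_I(X •)`.
-/

set_option autoImplicit false
universe u

namespace Groth.Agent.Lib.Helper66.AcyclicLC

open CategoryTheory Groth.Agent.Lib.Helper41.LC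

variable {R : Type u} [CommRing R] (I : Ideal R)

/-- `H^0_I(N) ≃ Γ_I(N)` -/
noncomputable def h0Equiv (N : Type u) [AddCommGroup N] [Module R N] :
    (localCohomology I 0).obj (ModuleCat.of R N) ≃ₗ[R] GrLC.gam I N :=
  LinearEquiv.ofBijective
    ((toMod I (ModuleCat.of R N)).codRestrict (GrLC.gam I N)
      (fun x => (mem_range_toMod_iff I (ModuleCat.of R N) _).mp ⟨x, rfl⟩))
    ⟨fun x y h => toMod_injective I (ModuleCat.of R N) (congrArg Subtype.val h),
      fun y => by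
        obtain ⟨x, hx⟩ := (mem_range_toMod_iff I (ModuleCat.of R N) y.1).mpr y.2
        exact ⟨x, Subtype.ext hx⟩⟩

theorem h0Equiv_apply (N : Type u) [AddCommGroup N] [Module R N]
    (x : (localCohomology I 0).obj (ModuleCat.of R N)) :
    ((h0Equiv I N x : GrLC.gam I N) : N) = toMod I (ModuleCat.of R N) x := rfl

section complex

variable (X : ℕ → Type u) [∀ n, AddCommGroup (X n)] [∀ n, Module R (X n)]
  (d : ∀ n, X n →ₗ[R] X (n + 1))
  (hex : ∀ n, LinearMap.ker (d (n + 1)) = LinearMap.range (d n))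

/-- the cycles -/
abbrev Z (n : ℕ) : Submodule R (X n) := LinearMap.ker (d n)

include hex in
theorem d_mem_Z (n : ℕ) (x : X n) : d n x ∈ Z X d (n + 1) := by
  change d n x ∈ LinearMap.ker (d (n + 1))
  rw [hex]
  exact ⟨x, rfl⟩

/-- `d n` as a map onto the next cycles -/
def dZ (n : ℕ) : X n →ₗ[R] Z X d (n + 1) :=
  (d n).codRestrict (Z X d (n + 1)) (d_mem_Z X d hex n)

/-- the short complex `0 → Z n → X n → Z (n+1) → 0` -/
@[reducible] noncomputable def sc (n : ℕ) : ShortComplex (ModuleCat.{u} R) :=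
  ShortComplex.mk (ModuleCat.ofHom (Z X d n).subtype) (ModuleCat.ofHom (dZ X d hex n)) (by
    ext x
    exact x.2)

theorem sc_shortExact (n : ℕ) : (sc X d hex n).ShortExact := by
  apply ModuleCat.shortComplex_shortExact
  · intro y
    change dZ X d hex n y = 0 ↔ y ∈ Set.range (Z X d n).subtype
    constructor
    · intro hy
      have : d n y = 0 := congrArg Subtype.val hy
      exact ⟨⟨y, this⟩, rfl⟩
    · rintro ⟨z, rfl⟩
      apply Subtype.ext
      exact z.2
  · exact (Z X d n).injective_subtype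
  · intro (z : Z X d (n + 1))
    have hz : (z : X (n + 1)) ∈ LinearMap.range (d n) := by
      rw [← hex]
      exact z.2
    obtain ⟨x, hx⟩ := hz
    exact ⟨x, Subtype.ext hx⟩

end complex

section main

variable (X : ℕ → Type u) [∀ n, AddCommGroup (X n)] [∀ n, Module R (X n)]
  (d : ∀ n, X n →ₗ[R] X (n + 1))
  (hex : ∀ n, LinearMap.ker (d (n + 1)) = LinearMap.range (d n))
  (hac : ∀ n j, 1 ≤ j → Subsingleton ((localCohomology I j).obj (ModuleCat.of R (X n))))

/-- cocycles of `Γ_I(X •)` in degree `n` are `Γ_I(Z n)` -/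
def cocycEquiv (n : ℕ) :
    ↥(GrLC.gam I (X n) ⊓ LinearMap.ker (d n)) ≃ₗ[R] ↥(GrLC.gam I ↥(Z X d n)) where
  toFun z := ⟨⟨z.1, z.2.2⟩, by
    obtain ⟨k, hk⟩ := z.2.1
    exact ⟨k, fun r hr => Subtype.ext (hk r hr)⟩⟩
  invFun w := ⟨w.1.1, ⟨by
    obtain ⟨k, hk⟩ := w.2
    exact ⟨k, fun r hr => congrArg Subtype.val (hk r hr)⟩, w.1.2⟩⟩
  map_add' _ _ := rfl
  map_smul' _ _ := rfl
  left_inv _ := rfl
  right_inv _ := rfl

/-- the map from cocycles of degree `n+1` to `H^1_I(Z n)` -/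
noncomputable def Phi (n : ℕ) : ↥(GrLC.gam I (X (n + 1)) ⊓ LinearMap.ker (d (n + 1))) →ₗ[R]
    (localCohomology I 1).obj (ModuleCat.of R (Z X d n)) :=
  (δ I (sc_shortExact X d hex n) 0 1 rfl) ∘ₗ (h0Equiv I (Z X d (n + 1))).symm.toLinearMap ∘ₗ
    (cocycEquiv I X d (n + 1)).toLinearMap

include hac in
theorem Phi_surjective (n : ℕ) : Function.Surjective (Phi I X d hex n) := by
  intro x₁
  haveI := hac n 1 le_rfl
  obtain ⟨x₃, hx₃⟩ := exact₁ I (sc_shortExact X d hex n) 0 1 rfl x₁ (Subsingleton.elim _ _)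
  refine ⟨(cocycEquiv I X d (n + 1)).symm (h0Equiv I (Z X d (n + 1)) x₃), ?_⟩
  unfold Phi
  simp only [LinearMap.comp_apply, LinearEquiv.coe_coe, LinearEquiv.apply_symm_apply,
    LinearEquiv.symm_apply_apply]
  exact hx₃

theorem Phi_ker (n : ℕ) : LinearMap.ker (Phi I X d hex n) =
    ((GrLC.gam I (X n)).map (d n)).comap (GrLC.gam I (X (n + 1)) ⊓ LinearMap.ker (d (n + 1))).subtype := by
  ext z
  rw [LinearMap.mem_ker, Submodule.mem_comap]
  set x₃ := (h0Equiv I (Z X d (n + 1))).symm (cocycEquiv I X d (n + 1) z) with hx₃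
  have hPhi : Phi I X d hex n z = δ I (sc_shortExact X d hex n) 0 1 rfl x₃ := rfl
  have htoMod : toMod I (ModuleCat.of R (Z X d (n + 1))) x₃ = ⟨z.1, z.2.2⟩ := by
    rw [← h0Equiv_apply, hx₃, LinearEquiv.apply_symm_apply]
    rfl
  rw [hPhi]
  constructor
  · intro h
    obtain ⟨x₂, hx₂⟩ := exact₃ I (sc_shortExact X d hex n) 0 1 rfl x₃ h
    have h1 := toMod_naturality I (sc X d hex n).g x₂
    rw [hx₂, htoMod] at h1
    refine ⟨toMod I (ModuleCat.of R (X n)) x₂,
      (mem_range_toMod_iff I (ModuleCat.of R (X n)) _).mp ⟨x₂, rfl⟩, ?_⟩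
    exact (congrArg Subtype.val h1).symm
  · rintro ⟨y, hy, hyz⟩
    set x₂ := (h0Equiv I (X n)).symm ⟨y, hy⟩ with hx₂
    have hx₂' : toMod I (ModuleCat.of R (X n)) x₂ = y := by
      rw [← h0Equiv_apply, hx₂, LinearEquiv.apply_symm_apply]
    have : ((localCohomology I 0).map (sc X d hex n).g).hom x₂ = x₃ := by
      apply toMod_injective I
      rw [toMod_naturality, hx₂', htoMod]
      apply Subtype.ext
      exact hyz
    rw [← this]
    exact δ_map_eq_zero I (sc_shortExact X d hex n) 0 1 rfl x₂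

include hac hex in
/-- cohomology of `Γ_I(X •)` in degree `n+1` is `H^1_I(Z n)` -/
theorem nonempty_cohEquiv (n : ℕ) : Nonempty
    ((↥(GrLC.gam I (X (n + 1)) ⊓ LinearMap.ker (d (n + 1))) ⧸
        ((GrLC.gam I (X n)).map (d n)).comap
          (GrLC.gam I (X (n + 1)) ⊓ LinearMap.ker (d (n + 1))).subtype) ≃ₗ[R]
      (localCohomology I 1).obj (ModuleCat.of R (Z X d n))) :=
  ⟨(Submodule.quotEquivOfEq _ _ (Phi_ker I X d hex n).symm).trans
    ((Phi I X d hex n).quotKerEquivOfSurjective (Phi_surjective I X d hex hac n))⟩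

include hac hex in
/-- dimension shifting along the cycles -/
theorem nonempty_shift (n : ℕ) : ∀ j : ℕ, 1 ≤ j → Nonempty
    ((localCohomology I j).obj (ModuleCat.of R (Z X d n)) ≃ₗ[R]
      (localCohomology I (j + n)).obj (ModuleCat.of R (Z X d 0))) := by
  induction n with
  | zero => intro j _; exact ⟨LinearEquiv.refl _ _⟩
  | succ n ih =>
    intro j hj
    have hb := δ_bijective_of_subsingleton I (sc_shortExact X d hex n) j (hac n j hj)
      (hac n (j + 1) (by omega))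
    obtain ⟨e⟩ := ih (j + 1) (by omega)
    have hidx : j + 1 + n = j + (n + 1) := by omega
    rw [hidx] at e
    exact ⟨(LinearEquiv.ofBijective _ hb).trans e⟩

end main

section final

variable (X : ℕ → Type u) [∀ n, AddCommGroup (X n)] [∀ n, Module R (X n)]
  (d : ∀ n, X n →ₗ[R] X (n + 1))
  (hex : ∀ n, LinearMap.ker (d (n + 1)) = LinearMap.range (d n))
  (hac : ∀ n j, 1 ≤ j → Subsingleton ((localCohomology I j).obj (ModuleCat.of R (X n))))
  {M : Type u} [AddCommGroup M] [Module R M] (ε : M →ₗ[R] X 0) (hε : Function.Injective ε)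
  (h0 : LinearMap.ker (d 0) = LinearMap.range ε)

/-- `M ≃ Z 0` -/
noncomputable def z0Equiv : M ≃ₗ[R] Z X d 0 :=
  (LinearEquiv.ofInjective ε hε).trans (LinearEquiv.ofEq _ _ h0.symm)

include hε h0 in
theorem nonempty_H_equiv (i : ℕ) : Nonempty
    ((localCohomology I i).obj (ModuleCat.of R (Z X d 0)) ≃ₗ[R]
      (localCohomology I i).obj (ModuleCat.of R M)) :=
  ⟨((localCohomology I i).mapIso (z0Equiv X d ε hε h0).toModuleIso).symm.toLinearEquiv⟩

include hex hac hε h0 in
/-- cohomology of `Γ_I(X •)` in degree `n+1` is `H^{n+1}_I(M)` -/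
theorem nonempty_equiv_succ (n : ℕ) : Nonempty
    ((↥(GrLC.gam I (X (n + 1)) ⊓ LinearMap.ker (d (n + 1))) ⧸
        ((GrLC.gam I (X n)).map (d n)).comap
          (GrLC.gam I (X (n + 1)) ⊓ LinearMap.ker (d (n + 1))).subtype) ≃ₗ[R]
      (localCohomology I (n + 1)).obj (ModuleCat.of R M)) := by
  obtain ⟨e1⟩ := nonempty_cohEquiv I X d hex hac n
  obtain ⟨e2⟩ := nonempty_shift I X d hex hac n 1 le_rfl
  have hidx : 1 + n = n + 1 := by omega
  rw [hidx] at e2
  obtain ⟨e3⟩ := nonempty_H_equiv I X d ε hε h0 (n + 1)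
  exact ⟨e1.trans (e2.trans e3)⟩

include hε h0 in
/-- cohomology of `Γ_I(X •)` in degree `0` is `H^0_I(M)` -/
theorem nonempty_equiv_zero : Nonempty
    ((↥(GrLC.gam I (X 0) ⊓ LinearMap.ker (d 0)) ⧸
        (⊥ : Submodule R (X 0)).comap (GrLC.gam I (X 0) ⊓ LinearMap.ker (d 0)).subtype) ≃ₗ[R]
      (localCohomology I 0).obj (ModuleCat.of R M)) := by
  have hbot : (⊥ : Submodule R (X 0)).comap (GrLC.gam I (X 0) ⊓ LinearMap.ker (d 0)).subtype = ⊥ := by
    rw [Submodule.comap_bot, Submodule.ker_subtype]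
  obtain ⟨e3⟩ := nonempty_H_equiv I X d ε hε h0 0
  exact ⟨(Submodule.quotEquivOfEqBot _ hbot).trans
    ((cocycEquiv I X d 0).trans ((h0Equiv I (Z X d 0)).symm.trans e3))⟩

end final

end Groth.Agent.Lib.Helper66.AcyclicLC
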