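import Mathlib
import Groth.Prelude.Def_GrLC
import Groth.Agent.Lib.Helper66.Graded
import Groth.Agent.Lib.Helper66.GradedQuot
import Groth.Agent.Lib.Helper66.GradedSub

/-!
The grading on graded local cohomology `E.H a i` computed from a *injective resolution
(helper66): `Γ_a`, cocycles, coboundaries are homogeneous; `E.Hgr a i` is the quotient grading.
-/

set_option autoImplicit false
universe u

namespace Groth.Agent.Lib.Helper66.GradedCoh

open DirectSum Groth.Agent.Lib.Helper66.Graded Groth.Agent.Lib.Helper66.GradedQuot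
  Groth.Agent.Lib.Helper66.GradedSub

variable {ι : Type} [AddCommGroup ι] [DecidableEq ι]
variable {R : Type u} [CommRing R] (𝒜 : ι → AddSubgroup R) [GradedRing 𝒜]

theorem pow_isHomogeneous {I : Ideal R} (hI : I.IsHomogeneous 𝒜) (n : ℕ) :
    (I ^ n).IsHomogeneous 𝒜 := by
  induction n with
  | zero =>
    rw [pow_zero, Ideal.one_eq_top]
    exact Ideal.IsHomogeneous.top 𝒜
  | succ n ih =>
    rw [pow_succ]
    exact ih.mul hI

variable {N : Type u} [AddCommGroup N] [Module R N] (𝒩 : ι → AddSubgroup N) [Decomposition 𝒩]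
  [SetLike.GradedSMul 𝒜 𝒩]

/-- `Γ_a` of a graded module for a homogeneous ideal is a homogeneous submodule. -/
theorem gam_isHomogeneous (a : HomogeneousIdeal 𝒜) :
    (GrLC.gam a.toIdeal N).IsHomogeneous 𝒩 := by
  classical
  rintro g x ⟨n, hn⟩
  refine ⟨n, fun r hr => ?_⟩
  have hpow := pow_isHomogeneous 𝒜 a.isHomogeneous n
  have key : ∀ h : ι, (decompose 𝒜 r h : R) • (decompose 𝒩 x g : N) = 0 := by
    intro h
    have h1 := hn _ (hpow h hr)
    have h2 := decompose_smul_homog 𝒜 𝒩 (SetLike.coe_mem (decompose 𝒜 r h)) x g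
    rw [h1, decompose_zero] at h2
    rw [← h2]
    simp
  rw [← DirectSum.sum_support_decompose 𝒜 r, Finset.sum_smul]
  exact Finset.sum_eq_zero (fun h _ => key h)

section res
variable {M : Type u} [AddCommGroup M] [Module R M] {ℳ : ι → AddSubgroup M} [Decomposition ℳ]
  [SetLike.GradedSMul 𝒜 ℳ] (E : GrLC.StarInjRes 𝒜 ℳ) (a : HomogeneousIdeal 𝒜) (i : ℕ)

theorem cocyc_isHomogeneous : (E.cocyc a i).IsHomogeneous (E.X i).gr :=
  inf_isHomogeneous _ (gam_isHomogeneous 𝒜 (E.X i).gr a)
    (ker_isHomogeneous (E.X i).gr (E.X (i + 1)).gr (E.d i) (E.d_grHom i))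

theorem cobdy_isHomogeneous : (E.cobdy a i).IsHomogeneous (E.X i).gr := by
  cases i with
  | zero => exact bot_isHomogeneous _
  | succ n =>
    exact map_isHomogeneous (E.X n).gr (E.X (n + 1)).gr (E.d n) (E.d_grHom n)
      (gam_isHomogeneous 𝒜 (E.X n).gr a)

/-- the coboundaries inside the cocycles are homogeneous for the induced grading -/
theorem cobdy_comap_isHomogeneous :
    letI := subDecomposition (E.X i).gr (E.cocyc a i) (cocyc_isHomogeneous 𝒜 E a i)
    ((E.cobdy a i).comap (E.cocyc a i).subtype).IsHomogeneous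
      (spiece (E.X i).gr (E.cocyc a i)) := by
  letI := subDecomposition (E.X i).gr (E.cocyc a i) (cocyc_isHomogeneous 𝒜 E a i)
  exact comap_isHomogeneous (spiece (E.X i).gr (E.cocyc a i)) (E.X i).gr (E.cocyc a i).subtype
    (subtype_grHom (E.X i).gr (E.cocyc a i)) (cobdy_isHomogeneous 𝒜 E a i)

theorem Hgr_eq : E.Hgr a i =
    qpiece (spiece (E.X i).gr (E.cocyc a i)) ((E.cobdy a i).comap (E.cocyc a i).subtype) := by
  funext g
  ext x
  constructor
  · rintro ⟨z, hz, rfl⟩
    exact ⟨z, hz, rfl⟩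
  · rintro ⟨z, hz, rfl⟩
    exact ⟨z, hz, rfl⟩

/-- graded local cohomology is the internal direct sum of its pieces -/
theorem Hgr_isInternal : DirectSum.IsInternal (E.Hgr a i) := by
  letI := subDecomposition (E.X i).gr (E.cocyc a i) (cocyc_isHomogeneous 𝒜 E a i)
  letI := quotDecomposition (spiece (E.X i).gr (E.cocyc a i))
    ((E.cobdy a i).comap (E.cocyc a i).subtype) (cobdy_comap_isHomogeneous 𝒜 E a i)
  rw [Hgr_eq]
  exact Decomposition.isInternal _

end res

end Groth.Agent.Lib.Helper66.GradedCoh
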