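import Mathlib
import Groth.Prelude.Def_GrLC
import Groth.Agent.Lib.Helper66.Graded
import Groth.Agent.Lib.Helper66.GradedInj
import Groth.Agent.Lib.Helper66.GradedSub
import Groth.Agent.Lib.Helper66.GradedGen

/-!
Finitely generated graded modules are graded quotients of finite free graded modules (helper66).
The free graded module on generators of degrees `e j` is realised inside the cofree graded module
`Cofree 𝒜 (J → R)` as the span of the `csingle (e j) (Pi.single j 1)`.
-/

set_option autoImplicit false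
universe u

namespace Groth.Agent.Lib.Helper66.GradedFree

open DirectSum Groth.Agent.Lib.Helper66.Graded Groth.Agent.Lib.Helper66.GradedInj
  Groth.Agent.Lib.Helper66.GradedSub Groth.Agent.Lib.Helper66.GradedGen

variable {ι : Type} [AddCommGroup ι] [DecidableEq ι]
variable {R : Type u} [CommRing R] (𝒜 : ι → AddSubgroup R) [GradedRing 𝒜]
variable {N : Type u} [AddCommGroup N] [Module R N] (𝒩 : ι → AddSubgroup N) [Decomposition 𝒩]
  [SetLike.GradedSMul 𝒜 𝒩]

include 𝒜 in
/-- The span of a set of homogeneous elements is homogeneous. -/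
theorem span_isHomogeneous (S : Set N) (hS : ∀ x ∈ S, ∃ g, x ∈ 𝒩 g) :
    (Submodule.span R S).IsHomogeneous 𝒩 := by
  have h : Submodule.span R S = sSup {P | ∃ x ∈ S, P = Submodule.span R {x}} := by
    apply le_antisymm
    · rw [Submodule.span_le]
      intro x hx
      have hle : Submodule.span R {x} ≤ sSup {P | ∃ x ∈ S, P = Submodule.span R {x}} :=
        le_sSup ⟨x, hx, rfl⟩
      exact hle (Submodule.mem_span_singleton_self x)
    · apply sSup_le
      rintro P ⟨x, hx, rfl⟩
      exact Submodule.span_mono (Set.singleton_subset_iff.mpr hx)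
  rw [h]
  apply sSup_isHomogeneous
  rintro P ⟨x, hx, rfl⟩
  obtain ⟨g, hg⟩ := hS x hx
  exact span_singleton_isHomogeneous 𝒜 𝒩 hg

/-- A finitely generated graded module is a graded quotient of a finite free graded module. -/
theorem exists_free_cover [Module.Finite R N] :
    ∃ (F : GrLC.GMod.{u} 𝒜) (π : F.carrier →ₗ[R] N), Module.Free R F.carrier ∧
      Module.Finite R F.carrier ∧ GrLC.IsGrHom F.gr 𝒩 π ∧ Function.Surjective π := by
  classical
  obtain ⟨J, _, k, e, hk, hspan⟩ := exists_homog_generators (R := R) 𝒩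
  let B : Type u := J → R
  let u : J → Cofree 𝒜 B := fun j => csingle 𝒜 B (e j) (Pi.single j 1)
  have hu : ∀ j, u j ∈ piece 𝒜 B (e j) := fun j => csingle_mem_piece 𝒜 B _ _
  let lam : B →ₗ[R] Cofree 𝒜 B := Fintype.linearCombination R u
  have hlam : ∀ a : B, lam a = ∑ j, a j • u j := fun a => Fintype.linearCombination_apply R u a
  have heps : ∀ a : B, eps 𝒜 B (lam a) = a := by
    intro a
    rw [hlam, map_sum]
    have : ∀ j ∈ Finset.univ, eps 𝒜 B (a j • u j) = Pi.single j (a j) := by
      intro j _
      rw [map_smul, eps_csingle]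
      ext j'
      change a j * (Pi.single j (1 : R) : J → R) j' = (Pi.single j (a j) : J → R) j'
      rw [Pi.single_apply, Pi.single_apply]
      split_ifs <;> simp
    rw [Finset.sum_congr rfl this]
    exact Finset.univ_sum_single a
  have hlaminj : Function.Injective lam := by
    intro a b hab
    rw [← heps a, ← heps b, hab]
  let F : Submodule R (Cofree 𝒜 B) := LinearMap.range lam
  have hFspan : F = Submodule.span R (Set.range u) := Fintype.range_linearCombination R u
  have hF : F.IsHomogeneous (piece 𝒜 B) := by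
    rw [hFspan]
    apply span_isHomogeneous 𝒜 (piece 𝒜 B)
    rintro _ ⟨j, rfl⟩
    exact ⟨e j, hu j⟩
  let eqv : B ≃ₗ[R] F := LinearEquiv.ofInjective lam hlaminj
  let π : F →ₗ[R] N := (Fintype.linearCombination R k) ∘ₗ (eps 𝒜 B) ∘ₗ F.subtype
  have hπlam : ∀ a : B, ∀ h : lam a ∈ F, π ⟨lam a, h⟩ = ∑ j, a j • k j := by
    intro a h
    change Fintype.linearCombination R k (eps 𝒜 B (lam a)) = _
    rw [heps, Fintype.linearCombination_apply]
  have hπgr : GrLC.IsGrHom (spiece (piece 𝒜 B) F) 𝒩 π := by
    intro g x hx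
    have hxs : (x : Cofree 𝒜 B) ∈ Submodule.span R (Set.range u) := by
      rw [← hFspan]; exact x.2
    obtain ⟨a, ha, hxa⟩ := exists_homog_coeff 𝒜 (piece 𝒜 B) u e hu
      (show (x : Cofree 𝒜 B) ∈ piece 𝒜 B g from hx) hxs
    have hmem : lam a ∈ F := ⟨a, rfl⟩
    have hx' : x = ⟨lam a, hmem⟩ := by
      apply Subtype.ext
      change (x : Cofree 𝒜 B) = lam a
      rw [hxa, hlam]
    rw [hx', hπlam a hmem]
    apply sum_mem
    intro j _
    have := SetLike.GradedSMul.smul_mem (A := 𝒜) (B := 𝒩) (ha j) (hk j)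
    rwa [vadd_eq_add, sub_add_cancel] at this
  have hπsurj : Function.Surjective π := by
    rw [← LinearMap.range_eq_top, eq_top_iff, ← hspan, Submodule.span_le]
    rintro _ ⟨j, rfl⟩
    have hmem : lam (Pi.single j 1) ∈ F := ⟨_, rfl⟩
    refine ⟨⟨lam (Pi.single j 1), hmem⟩, ?_⟩
    rw [hπlam _ hmem, Finset.sum_eq_single j]
    · rw [Pi.single_eq_same, one_smul]
    · intro j' _ hj'
      rw [Pi.single_eq_of_ne hj', zero_smul]
    · intro h
      exact absurd (Finset.mem_univ j) h
  exact ⟨subGMod 𝒜 (piece 𝒜 B) F hF, π, Module.Free.of_equiv eqv, Module.Finite.equiv eqv,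
    hπgr, hπsurj⟩

end Groth.Agent.Lib.Helper66.GradedFree
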