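import Mathlib

/-!
# Homogeneous submodules of graded modules inherit a grading (helper66)

ns `Groth.Agent.Lib.Helper66.HomogSub`.
`P : Submodule A M` with all homogeneous components of its elements in `P`:
* `grading ℳ P n : Submodule R P`, `decomposition ℳ P hP : DirectSum.Decomposition (grading ℳ P)`,
  `gradedSMul`
* `decompose_smul_of_lt`, `decompose_mem_span_finset`: the span of finitely many homogeneous elements is homogeneous.
-/

set_option autoImplicit false
universe u
open DirectSum

namespace Groth.Agent.Lib.Helper66.HomogSub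

variable {R A : Type u} [CommRing R] [CommRing A] [Algebra R A] (𝒜 : ℕ → Submodule R A)
  [GradedAlgebra 𝒜]
  {M : Type u} [AddCommGroup M] [Module R M] [Module A M] [IsScalarTower R A M]
  (ℳ : ℕ → Submodule R M) [DirectSum.Decomposition ℳ] [SetLike.GradedSMul 𝒜 ℳ]
  (P : Submodule A M)

/-- the induced grading on a submodule -/
def grading (n : ℕ) : Submodule R P where
  carrier := {z | z.1 ∈ ℳ n}
  add_mem' := fun ha hb => (ℳ n).add_mem ha hb
  zero_mem' := (ℳ n).zero_mem
  smul_mem' := fun r z hz => by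
    change (r • z : P).1 ∈ ℳ n
    rw [Submodule.coe_smul_of_tower]
    exact (ℳ n).smul_mem r hz

lemma mem_grading {n : ℕ} {z : P} : z ∈ grading ℳ P n ↔ z.1 ∈ ℳ n := Iff.rfl

instance gradedSMul : SetLike.GradedSMul 𝒜 (grading ℳ P) where
  smul_mem := fun {i j a z} ha hz => by
    change (a • z : P).1 ∈ ℳ (i +ᵥ j)
    rw [Submodule.coe_smul]
    exact SetLike.GradedSMul.smul_mem ha hz

/-- inclusion of the pieces -/
def inclPiece (n : ℕ) : grading ℳ P n →+ ℳ n where
  toFun z := ⟨z.1.1, z.2⟩
  map_zero' := rfl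
  map_add' _ _ := rfl

/-- the comparison `⨁ 𝒫 n → ⨁ ℳ n` -/
noncomputable def Φ : (⨁ n, grading ℳ P n) →+ ⨁ n, ℳ n :=
  DirectSum.toAddMonoid fun n => (DirectSum.of (fun n => ℳ n) n).comp (inclPiece ℳ P n)

lemma Φ_of (n : ℕ) (z : grading ℳ P n) :
    Φ ℳ P (DirectSum.of (fun n => grading ℳ P n) n z) = DirectSum.of (fun n => ℳ n) n (inclPiece ℳ P n z) :=
  DirectSum.toAddMonoid_of _ _ _

lemma Φ_apply (y : ⨁ n, grading ℳ P n) (n : ℕ) : ((Φ ℳ P y) n : M) = ((y n : grading ℳ P n) : P).1 := by
  classical
  induction y using DirectSum.induction_on with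
  | zero => simp
  | of i z =>
    rw [Φ_of]
    by_cases h : i = n
    · subst h
      rw [DirectSum.of_eq_same, DirectSum.of_eq_same]
      rfl
    · rw [DirectSum.of_eq_of_ne _ _ _ (Ne.symm h), DirectSum.of_eq_of_ne _ _ _ (Ne.symm h)]
      rfl
  | add y y' hy hy' =>
    rw [map_add, DirectSum.add_apply, DirectSum.add_apply, Submodule.coe_add, hy, hy']
    rfl

lemma Φ_injective : Function.Injective (Φ ℳ P) := by
  intro y y' h
  refine DFinsupp.ext fun n => ?_
  apply Subtype.ext
  apply Subtype.ext
  rw [← Φ_apply, ← Φ_apply, h]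

lemma coe_Φ (y : ⨁ n, grading ℳ P n) :
    DirectSum.coeAddMonoidHom ℳ (Φ ℳ P y) = (DirectSum.coeAddMonoidHom (grading ℳ P) y : P).1 := by
  classical
  induction y using DirectSum.induction_on with
  | zero => simp
  | of i z =>
    rw [Φ_of, DirectSum.coeAddMonoidHom_of, DirectSum.coeAddMonoidHom_of]
    rfl
  | add y y' hy hy' =>
    rw [map_add, map_add, map_add, hy, hy']
    rfl

variable (hP : ∀ z ∈ P, ∀ n, (DirectSum.decompose ℳ z n : M) ∈ P)

include hP in
lemma decompose_mem_range (z : P) : DirectSum.decompose ℳ z.1 ∈ (Φ ℳ P).range := by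
  classical
  rw [← DirectSum.sum_support_of (DirectSum.decompose ℳ z.1)]
  refine sum_mem fun n _ => ?_
  exact ⟨DirectSum.of (fun n => grading ℳ P n) n
    ⟨⟨(DirectSum.decompose ℳ z.1 n : M), hP z.1 z.2 n⟩, (DirectSum.decompose ℳ z.1 n).2⟩, Φ_of ℳ P n _⟩

/-- the decomposition map of the submodule -/
noncomputable def decomp : P →+ ⨁ n, grading ℳ P n :=
  (AddMonoidHom.ofInjective (Φ_injective ℳ P)).symm.toAddMonoidHom.comp
    (AddMonoidHom.codRestrict
      ((DirectSum.decomposeAddEquiv ℳ).toAddMonoidHom.comp P.subtype.toAddMonoidHom)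
      (Φ ℳ P).range (fun z => decompose_mem_range ℳ P hP z))

lemma Φ_decomp (z : P) : Φ ℳ P (decomp ℳ P hP z) = DirectSum.decompose ℳ z.1 := by
  have := (AddMonoidHom.ofInjective (Φ_injective ℳ P)).apply_symm_apply
    ⟨DirectSum.decompose ℳ z.1, decompose_mem_range ℳ P hP z⟩
  exact congrArg Subtype.val this

/-- **a homogeneous submodule is graded** -/
@[instance_reducible]
noncomputable def decomposition : DirectSum.Decomposition (grading ℳ P) :=
  DirectSum.Decomposition.ofAddHom _ (decomp ℳ P hP)
    (by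
      ext z
      change (DirectSum.coeAddMonoidHom (grading ℳ P) (decomp ℳ P hP z) : P).1 = z.1
      rw [← coe_Φ, Φ_decomp]
      exact DirectSum.Decomposition.left_inv _)
    (by
      refine DFunLike.ext _ _ fun y => ?_
      apply Φ_injective ℳ P
      change Φ ℳ P (decomp ℳ P hP (DirectSum.coeAddMonoidHom (grading ℳ P) y)) = Φ ℳ P y
      rw [Φ_decomp, ← coe_Φ]
      exact DirectSum.Decomposition.right_inv _)

/-! ### spans of homogeneous elements -/

include 𝒜 in
/-- components of `a • z` below the degree of `z` vanish -/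
lemma decompose_smul_of_lt {k : ℕ} {z : M} (hz : z ∈ ℳ k) (a : A) {n : ℕ} (hn : n < k) :
    (DirectSum.decompose ℳ (a • z) n : M) = 0 := by
  classical
  induction a using DirectSum.Decomposition.inductionOn 𝒜 with
  | zero => simp
  | @homogeneous i a =>
    have haz : (a : A) • z ∈ ℳ (i + k) := SetLike.GradedSMul.smul_mem a.2 hz
    rw [DirectSum.decompose_of_mem_ne ℳ haz (by omega)]
  | add a a' ha ha' =>
    rw [add_smul, DirectSum.decompose_add, DirectSum.add_apply, Submodule.coe_add, ha, ha', add_zero]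

/-- components of `a • z` for homogeneous `z` -/
lemma decompose_smul_of_le {k : ℕ} {z : M} (hz : z ∈ ℳ k) (a : A) {n : ℕ} (hn : k ≤ n) :
    (DirectSum.decompose ℳ (a • z) n : M) = (DirectSum.decompose 𝒜 a (n - k) : A) • z := by
  classical
  induction a using DirectSum.Decomposition.inductionOn 𝒜 with
  | zero => simp
  | @homogeneous i a =>
    obtain ⟨a, ha⟩ := a
    have haz : a • z ∈ ℳ (i + k) := SetLike.GradedSMul.smul_mem ha hz
    by_cases hh : i = n - k
    · subst hh
      have e : n - k + k = n := by omega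
      rw [DirectSum.decompose_of_mem_same _ ha]
      have := DirectSum.decompose_of_mem_same ℳ haz
      rw [e] at this
      exact this
    · have : i + k ≠ n := by omega
      rw [DirectSum.decompose_of_mem_ne _ ha hh, DirectSum.decompose_of_mem_ne _ haz this, zero_smul]
  | add a a' ha ha' =>
    simp only [add_smul, DirectSum.decompose_add, DirectSum.add_apply, Submodule.coe_add, ha, ha']

include 𝒜 in
/-- the span of finitely many homogeneous elements is a homogeneous submodule -/
theorem decompose_mem_span_finset (Z : Finset M) (hZ : ∀ z ∈ Z, ∃ k, z ∈ ℳ k) {x : M}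
    (hx : x ∈ Submodule.span A (Z : Set M)) (n : ℕ) :
    (DirectSum.decompose ℳ x n : M) ∈ Submodule.span A (Z : Set M) := by
  classical
  obtain ⟨c, -, hc⟩ := Submodule.mem_span_finset.mp hx
  rw [← hc, DirectSum.decompose_sum, DFinsupp.finsetSum_apply, AddSubmonoidClass.coe_finsetSum]
  refine sum_mem fun z hz => ?_
  obtain ⟨k, hk⟩ := hZ z hz
  by_cases hkn : k ≤ n
  · rw [decompose_smul_of_le 𝒜 ℳ hk (c z) hkn]
    exact Submodule.smul_mem _ _ (Submodule.subset_span hz)
  · rw [decompose_smul_of_lt 𝒜 ℳ hk (c z) (by omega)]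
    exact zero_mem _

end Groth.Agent.Lib.Helper66.HomogSub
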