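import Mathlib
import Groth.Prelude.Def_GrLC
import Groth.Agent.Lib.Helper66.Graded

/-!
Homogeneous units in graded rings (helper66): inverses and integer powers of homogeneous units
are homogeneous.
-/

set_option autoImplicit false
universe u

namespace Groth.Agent.Lib.Helper66.GradedUnit

open DirectSum Groth.Agent.Lib.Helper66.Graded

variable {ι : Type} [AddCommGroup ι] [DecidableEq ι]
variable {R : Type u} [CommRing R] (𝒜 : ι → AddSubgroup R) [GradedRing 𝒜]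

/-- The inverse of a homogeneous unit of degree `g` is homogeneous of degree `-g`. -/
theorem inv_mem {g : ι} (u : Rˣ) (hu : (u : R) ∈ 𝒜 g) : ((u⁻¹ : Rˣ) : R) ∈ 𝒜 (-g) := by
  have h1 := decompose_smul_homog 𝒜 𝒜 hu ((u⁻¹ : Rˣ) : R) (-g)
  rw [smul_eq_mul, Units.mul_inv, add_neg_cancel,
    decompose_of_mem_same 𝒜 (SetLike.GradedOne.one_mem : (1 : R) ∈ 𝒜 0), smul_eq_mul] at h1
  have h2 : ((u⁻¹ : Rˣ) : R) = (decompose 𝒜 ((u⁻¹ : Rˣ) : R) (-g) : R) := by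
    calc ((u⁻¹ : Rˣ) : R) = ((u⁻¹ : Rˣ) : R) * 1 := (mul_one _).symm
      _ = ((u⁻¹ : Rˣ) : R) * ((u : R) * (decompose 𝒜 ((u⁻¹ : Rˣ) : R) (-g) : R)) := by rw [← h1]
      _ = (decompose 𝒜 ((u⁻¹ : Rˣ) : R) (-g) : R) := by
        rw [← mul_assoc, Units.inv_mul, one_mul]
  rw [h2]
  exact SetLike.coe_mem _

/-- Integer powers of a homogeneous unit are homogeneous. -/
theorem zpow_mem {g : ι} (u : Rˣ) (hu : (u : R) ∈ 𝒜 g) (j : ℤ) :
    ((u ^ j : Rˣ) : R) ∈ 𝒜 (j • g) := by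
  have hnat : ∀ (v : Rˣ) (h : ι), (v : R) ∈ 𝒜 h → ∀ n : ℕ, ((v ^ n : Rˣ) : R) ∈ 𝒜 (n • h) := by
    intro v h hv n
    rw [Units.val_pow_eq_pow_val]
    exact SetLike.pow_mem_graded n hv
  cases j with
  | ofNat n =>
    rw [Int.ofNat_eq_natCast, zpow_natCast, natCast_zsmul]
    exact hnat u g hu n
  | negSucc n =>
    rw [zpow_negSucc, negSucc_zsmul, ← inv_pow]
    have := hnat u⁻¹ (-g) (inv_mem 𝒜 u hu) (n + 1)
    rwa [smul_neg] at this

end Groth.Agent.Lib.Helper66.GradedUnit
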