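import Mathlib.Algebra.Lie.Basic
import Mathlib.LinearAlgebra.Basis.Basic
import Mathlib.LinearAlgebra.Matrix.ToLin
import Mathlib.LinearAlgebra.Determinant
import Mathlib.Algebra.BigOperators.Fin
import Mathlib.Tactic.Module
import Mathlib.Tactic.LinearCombination

/-!
Helper lemmas for Lie algebras that are free of rank three with an explicit basis.
-/

set_option autoImplicit false

namespace Groth.Agent.Lib.Helper66

open Module

variable {A : Type*} [CommRing A] {L : Type*} [AddCommGroup L] [Module A L]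

/-- Expansion of a vector in a basis indexed by `Fin 3`. -/
theorem repr3 (bs : Basis (Fin 3) A L) (v : L) :
    v = bs.repr v 0 • bs 0 + bs.repr v 1 • bs 1 + bs.repr v 2 • bs 2 := by
  conv_lhs => rw [← bs.sum_repr v]
  rw [Fin.sum_univ_three]

/-- Comparison of coordinates in a basis indexed by `Fin 3`. -/
theorem coords3 (bs : Basis (Fin 3) A L) {c0 c1 c2 d0 d1 d2 : A}
    (h : c0 • bs 0 + c1 • bs 1 + c2 • bs 2 = d0 • bs 0 + d1 • bs 1 + d2 • bs 2) :
    c0 = d0 ∧ c1 = d1 ∧ c2 = d2 := by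
  have h' := congrArg bs.repr h
  simp only [map_add, map_smul, Basis.repr_self] at h'
  refine ⟨?_, ?_, ?_⟩
  · have := DFunLike.congr_fun h' 0
    simpa [Finsupp.single_apply] using this
  · have := DFunLike.congr_fun h' 1
    simpa [Finsupp.single_apply] using this
  · have := DFunLike.congr_fun h' 2
    simpa [Finsupp.single_apply] using this

/-- Coordinates of an explicit combination. -/
theorem repr3_eq (bs : Basis (Fin 3) A L) (c0 c1 c2 : A) :
    bs.repr (c0 • bs 0 + c1 • bs 1 + c2 • bs 2) 0 = c0 ∧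
    bs.repr (c0 • bs 0 + c1 • bs 1 + c2 • bs 2) 1 = c1 ∧
    bs.repr (c0 • bs 0 + c1 • bs 1 + c2 • bs 2) 2 = c2 := by
  have h := repr3 bs (c0 • bs 0 + c1 • bs 1 + c2 • bs 2)
  obtain ⟨h0, h1, h2⟩ := coords3 bs h
  exact ⟨h0.symm, h1.symm, h2.symm⟩

section Lie

variable {L' : Type*} [LieRing L'] [LieAlgebra A L']

/-- The bracket of two explicit combinations of three vectors. -/
theorem lie3 (x y z : L') (u0 u1 u2 v0 v1 v2 : A) :
    ⁅u0 • x + u1 • y + u2 • z, v0 • x + v1 • y + v2 • z⁆ =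
      (u0 * v1 - u1 * v0) • ⁅x, y⁆ + (u0 * v2 - u2 * v0) • ⁅x, z⁆ +
        (u1 * v2 - u2 * v1) • ⁅y, z⁆ := by
  have hyx : ⁅y, x⁆ = -⁅x, y⁆ := (lie_skew y x).symm
  have hzx : ⁅z, x⁆ = -⁅x, z⁆ := (lie_skew z x).symm
  have hzy : ⁅z, y⁆ = -⁅y, z⁆ := (lie_skew z y).symm
  simp only [lie_add, add_lie, lie_smul, smul_lie, lie_self, hyx, hzx, hzy]
  module

end Lie

/-- The determinant of a linear equivalence between free modules of rank three, in coordinates,
is a unit. -/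
theorem isUnit_det3 {M : Type*} [AddCommGroup M] [Module A M]
    (bs : Basis (Fin 3) A L) (bs' : Basis (Fin 3) A M) (φ : L ≃ₗ[A] M) :
    IsUnit
      (bs'.repr (φ (bs 0)) 0 * (bs'.repr (φ (bs 1)) 1 * bs'.repr (φ (bs 2)) 2 -
          bs'.repr (φ (bs 1)) 2 * bs'.repr (φ (bs 2)) 1) -
        bs'.repr (φ (bs 0)) 1 * (bs'.repr (φ (bs 1)) 0 * bs'.repr (φ (bs 2)) 2 -
          bs'.repr (φ (bs 1)) 2 * bs'.repr (φ (bs 2)) 0) +
        bs'.repr (φ (bs 0)) 2 * (bs'.repr (φ (bs 1)) 0 * bs'.repr (φ (bs 2)) 1 -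
          bs'.repr (φ (bs 1)) 1 * bs'.repr (φ (bs 2)) 0)) := by
  have h := LinearEquiv.isUnit_det φ bs bs'
  rw [Matrix.det_fin_three] at h
  simp only [LinearMap.toMatrix_apply, LinearEquiv.coe_coe] at h
  convert h using 1
  ring

section LieEquivConstr

variable {L₁ : Type*} [LieRing L₁] [LieAlgebra A L₁] {L₂ : Type*} [LieRing L₂] [LieAlgebra A L₂]

/-- A linear equivalence that respects the brackets of the members of a basis indexed by `Fin 3`
respects all brackets. -/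
theorem map_lie_of_basis3 (bs : Basis (Fin 3) A L₁) (e : L₁ →ₗ[A] L₂)
    (h01 : e ⁅bs 0, bs 1⁆ = ⁅e (bs 0), e (bs 1)⁆)
    (h02 : e ⁅bs 0, bs 2⁆ = ⁅e (bs 0), e (bs 2)⁆)
    (h12 : e ⁅bs 1, bs 2⁆ = ⁅e (bs 1), e (bs 2)⁆) (u v : L₁) :
    e ⁅u, v⁆ = ⁅e u, e v⁆ := by
  rw [repr3 bs u, repr3 bs v, lie3]
  simp only [map_add, map_smul]
  rw [lie3, h01, h02, h12]

/-- The Lie algebra equivalence attached to a linear equivalence respecting the brackets of the
members of a basis indexed by `Fin 3`. -/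
def lieEquivOfBasis3 (bs : Basis (Fin 3) A L₁) (e : L₁ ≃ₗ[A] L₂)
    (h01 : e ⁅bs 0, bs 1⁆ = ⁅e (bs 0), e (bs 1)⁆)
    (h02 : e ⁅bs 0, bs 2⁆ = ⁅e (bs 0), e (bs 2)⁆)
    (h12 : e ⁅bs 1, bs 2⁆ = ⁅e (bs 1), e (bs 2)⁆) : L₁ ≃ₗ⁅A⁆ L₂ :=
  { toLinearMap := e.toLinearMap
    map_lie' := fun {u v} => map_lie_of_basis3 bs e.toLinearMap h01 h02 h12 u v
    invFun := e.symm
    left_inv := e.left_inv
    right_inv := e.right_inv }

end LieEquivConstr

end Groth.Agent.Lib.Helper66
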