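import Mathlib
import Groth.Prelude.Def_Coh
import Groth.Agent.Lib.Helper22.QCohLoc

/-!
# Relative spectrum of a quasi-coherent algebra (helper66)

`B` a sheaf of commutative rings on a scheme `S`, `φ : S.sheaf ⟶ B` making `B` a quasi-coherent module.
We glue `Spec B(U)` (Mathlib's `relativeGluingData`) and identify `f_* O_X` with `B`.

ns `Groth.Agent.Lib.Helper66.RelSpec`.
-/

set_option autoImplicit false
universe u
open CategoryTheory AlgebraicGeometry TopologicalSpace Opposite

namespace Groth.Agent.Lib.Helper66.RelSpec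

variable {S : Scheme.{u}}
    (B : Sheaf (Opens.grothendieckTopology S) CommRingCat.{u}) (φ : S.sheaf ⟶ B)

/-- `B` as an `O_S`-module -/
noncomputable abbrev Bmod : S.Modules := ((SheafOfModules.restrictScalars
      ((sheafCompose (Opens.grothendieckTopology S) (forget₂ CommRingCat.{u} RingCat.{u})).map φ)).obj
      (SheafOfModules.unit ((sheafCompose (Opens.grothendieckTopology S)
        (forget₂ CommRingCat.{u} RingCat.{u})).obj B)))

/-- the restriction of `B` to the affine Zariski site -/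
noncomputable abbrev Faff : S.AffineZariskiSiteᵒᵖ ⥤ CommRingCat.{u} :=
  (Scheme.AffineZariskiSite.toOpensFunctor S).op ⋙ B.obj

/-- the structure map on the affine Zariski site -/
noncomputable abbrev αaff :
    (Scheme.AffineZariskiSite.toOpensFunctor S).op ⋙ S.presheaf ⟶ Faff B :=
  Functor.whiskerLeft _ φ.hom

/-- restriction of `B` -/
noncomputable abbrev resB {U V : S.Opens} (h : V ≤ U) : B.obj.obj (op U) →+* B.obj.obj (op V) :=
  (B.obj.map (homOfLE h).op).hom

/-- structure map of `B` -/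
noncomputable abbrev strB (U : S.Opens) : Γ(S, U) →+* B.obj.obj (op U) :=
  (φ.hom.app (op U)).hom

lemma strB_res {U V : S.Opens} (h : V ≤ U) (r : Γ(S, U)) :
    strB B φ V (S.presheaf.map (homOfLE h).op r) = resB B h (strB B φ U r) :=
  congr($(φ.hom.naturality (homOfLE h).op) r)

variable (hB : (Bmod B φ).IsQuasicoherent)

include hB in
lemma exists_pow_mul_eq_zero {U : S.Opens} (hU : IsAffineOpen U) (r : Γ(S, U))
    (x : B.obj.obj (op U)) (hx : resB B (S.basicOpen_le r) x = 0) :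
    ∃ n : ℕ, strB B φ U r ^ n * x = 0 := by
  obtain ⟨n, hn⟩ := Groth.Agent.Lib.Helper22.exists_pow_smul_eq_zero_of_isAffineOpen (Bmod B φ) hU r
    (show Γ(Bmod B φ, U) from x) hx
  refine ⟨n, ?_⟩
  rw [← map_pow]
  exact hn

include hB in
lemma exists_pow_mul_eq_res {U : S.Opens} (hU : IsAffineOpen U) (r : Γ(S, U))
    (y : B.obj.obj (op (S.basicOpen r))) :
    ∃ (n : ℕ) (x : B.obj.obj (op U)), resB B (S.basicOpen_le r) x =
      resB B (S.basicOpen_le r) (strB B φ U r) ^ n * y := by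
  obtain ⟨n, x, hx⟩ := Groth.Agent.Lib.Helper22.exists_pow_smul_eq_map_of_isAffineOpen (Bmod B φ) hU r
    (show Γ(Bmod B φ, S.basicOpen r) from y)
  refine ⟨n, x, ?_⟩
  rw [← strB_res, ← map_pow]
  exact hx

include hB in
lemma coequifibered : (αaff B φ).Coequifibered := by
  rw [Scheme.AffineZariskiSite.coequifibered_iff_forall_isLocalizationAway]
  intro U r
  let _ := ((Faff B).map (homOfLE (U.basicOpen_le r)).op).hom.toAlgebra
  rw [IsLocalization.Away, isLocalization_iff]
  refine ⟨?_, ?_, ?_⟩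
  · rintro ⟨_, n, rfl⟩
    have h1 : IsUnit (S.presheaf.map (homOfLE (S.basicOpen_le r)).op r) :=
      RingedSpace.isUnit_res_basicOpen _ r
    have h2 := (h1.map (strB B φ (S.basicOpen r))).pow n
    change IsUnit (resB B (S.basicOpen_le r) (strB B φ U.toOpens r ^ n))
    rw [map_pow, ← strB_res]
    exact h2
  · intro (z : B.obj.obj (op (S.basicOpen r)))
    obtain ⟨n, x, hx⟩ := exists_pow_mul_eq_res B φ hB U.2 r z
    refine ⟨⟨x, ⟨_, n, rfl⟩⟩, ?_⟩
    change z * resB B (S.basicOpen_le r) (strB B φ U.toOpens r ^ n) = resB B (S.basicOpen_le r) x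
    rw [hx, map_pow, mul_comm]
  · intro (x : B.obj.obj (op U.toOpens)) (y : B.obj.obj (op U.toOpens)) hxy
    change resB B (S.basicOpen_le r) x = resB B (S.basicOpen_le r) y at hxy
    obtain ⟨n, hn⟩ := exists_pow_mul_eq_zero B φ hB U.2 r (x - y) (by rw [map_sub, hxy, sub_self])
    refine ⟨⟨_, n, rfl⟩, ?_⟩
    change strB B φ U.toOpens r ^ n * x = strB B φ U.toOpens r ^ n * y
    rw [mul_sub, sub_eq_zero] at hn
    exact hn

section General

lemma appLE_ΓSpecIso_naturality {X : Scheme.{u}} {R R' : CommRingCat.{u}} (g : R ⟶ R')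
    (a : Spec R ⟶ X) (a' : Spec R' ⟶ X) (h : Spec.map g ≫ a = a') (W : X.Opens)
    (e : ⊤ ≤ a ⁻¹ᵁ W) (e' : ⊤ ≤ a' ⁻¹ᵁ W) :
    a'.appLE W ⊤ e' ≫ (Scheme.ΓSpecIso R').hom =
      a.appLE W ⊤ e ≫ (Scheme.ΓSpecIso R).hom ≫ g := by
  subst h
  rw [← Scheme.ΓSpecIso_naturality, ← Category.assoc]
  congr 1

lemma app_appLE_ΓSpecIso {X Y : Scheme.{u}} {U : Y.Opens} (hU : IsAffineOpen U) {R : CommRingCat.{u}}
    (a : Spec R ⟶ X) (f : X ⟶ Y) (g : Γ(Y, U) ⟶ R) (h : a ≫ f = Spec.map g ≫ hU.fromSpec)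
    (e : ⊤ ≤ a ⁻¹ᵁ (f ⁻¹ᵁ U)) :
    f.app U ≫ a.appLE (f ⁻¹ᵁ U) ⊤ e ≫ (Scheme.ΓSpecIso R).hom = g := by
  have e2 : (⊤ : (Spec R).Opens) ≤ (a ≫ f) ⁻¹ᵁ U := e
  have h1 : f.app U ≫ a.appLE (f ⁻¹ᵁ U) ⊤ e = (a ≫ f).appLE U ⊤ e2 :=
    (Scheme.Hom.comp_appLE a f U ⊤ e2).symm
  rw [← Category.assoc, h1]
  have e3 : (⊤ : (Spec R).Opens) ≤ (Spec.map g ≫ hU.fromSpec) ⁻¹ᵁ U := h ▸ e2
  have h2 : (a ≫ f).appLE U ⊤ e2 = (Spec.map g ≫ hU.fromSpec).appLE U ⊤ e3 := by
    congr 1
  have e4 : (⊤ : (Spec R).Opens) ≤ (Spec.map g) ⁻¹ᵁ (hU.fromSpec ⁻¹ᵁ U) := e3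
  have h3 : (Spec.map g ≫ hU.fromSpec).appLE U ⊤ e3 =
      hU.fromSpec.app U ≫ (Spec.map g).appLE (hU.fromSpec ⁻¹ᵁ U) ⊤ e4 := Scheme.Hom.comp_appLE _ _ _ _ _
  rw [h2, h3, hU.fromSpec_app_self, Category.assoc, Category.assoc]
  have h4 := Scheme.Hom.map_appLE (Spec.map g) (U := hU.fromSpec ⁻¹ᵁ U) (V := ⊤) e4
    (eqToHom hU.fromSpec_preimage_self).op
  rw [← Category.assoc ((Spec Γ(Y, U)).presheaf.map _), h4]
  have h5 : (Spec.map g).appLE ⊤ ⊤ (e4.trans ((Opens.map (Spec.map g).base).map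
      (eqToHom hU.fromSpec_preimage_self)).le) = (Spec.map g).appTop :=
    (Scheme.Hom.app_eq_appLE (Spec.map g)).symm
  rw [h5, Scheme.ΓSpecIso_naturality, Iso.inv_hom_id_assoc]

end General

section Glue

open CategoryTheory.Limits

/-- the relative gluing data -/
noncomputable def gd : (Scheme.AffineZariskiSite.directedCover S).RelativeGluingData :=
  Scheme.AffineZariskiSite.relativeGluingData (coequifibered B φ hB)

instance : ((gd B φ hB).functor ⋙ Scheme.forget).IsLocallyDirected :=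
  Scheme.Cover.RelativeGluingData.instIsLocallyDirectedI₀CompFunctorForgetOfIsThin ..

/-- the relative spectrum -/
noncomputable def relSpec : Scheme.{u} := (gd B φ hB).glued

/-- the cover of the relative spectrum by `Spec B(U)` -/
noncomputable def cov : (relSpec B φ hB).OpenCover := (gd B φ hB).cover

/-- the structure map -/
noncomputable def toBase : relSpec B φ hB ⟶ S := (gd B φ hB).toBase

lemma ι_toBase (U : S.AffineZariskiSite) :
    (cov B φ hB).f U ≫ toBase B φ hB = Spec.map ((αaff B φ).app (op U)) ≫ U.2.fromSpec :=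
  colimit.ι_desc _ _

set_option backward.isDefEq.respectTransparency.types false in
lemma toBase_preimage (U : S.AffineZariskiSite) :
    toBase B φ hB ⁻¹ᵁ U.toOpens = ((cov B φ hB).f U).opensRange := by
  simpa using! (gd B φ hB).toBase_preimage_eq_opensRange_ι U

set_option backward.isDefEq.respectTransparency.types false in
instance instOI (U : S.AffineZariskiSite) : IsOpenImmersion ((cov B φ hB).f U) := inferInstance

set_option backward.isDefEq.respectTransparency.types false in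
lemma top_le_preimage (U : S.AffineZariskiSite) :
    (⊤ : ((cov B φ hB).X U).Opens) ≤ (cov B φ hB).f U ⁻¹ᵁ (toBase B φ hB ⁻¹ᵁ U.toOpens) := by
  rw [toBase_preimage]
  simp

set_option backward.isDefEq.respectTransparency.types false in
/-- `Γ(X, f⁻¹U) ⟶ B(U)` -/
noncomputable def objHom (U : S.AffineZariskiSite) :
    Γ(relSpec B φ hB, toBase B φ hB ⁻¹ᵁ U.toOpens) ⟶ B.obj.obj (op U.toOpens) :=
  ((cov B φ hB).f U).appLE (toBase B φ hB ⁻¹ᵁ U.toOpens) ⊤ (top_le_preimage B φ hB U) ≫
    (Scheme.ΓSpecIso (B.obj.obj (op U.toOpens))).hom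

set_option backward.isDefEq.respectTransparency.types false in
instance instIsIsoObjHom (U : S.AffineZariskiSite) : IsIso (objHom B φ hB U) := by
  unfold objHom
  have h1 : IsIso (((cov B φ hB).f U).appLE (toBase B φ hB ⁻¹ᵁ U.toOpens) ⊤
      (top_le_preimage B φ hB U)) := by
    rw [Scheme.Hom.appLE]
    have : IsIso (((cov B φ hB).f U).app (toBase B φ hB ⁻¹ᵁ U.toOpens)) :=
      Scheme.Hom.isIso_app _ _ (toBase_preimage B φ hB U).le
    have : IsIso (homOfLE (top_le_preimage B φ hB U)) :=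
      ⟨homOfLE le_top, Subsingleton.elim _ _, Subsingleton.elim _ _⟩
    infer_instance
  infer_instance

set_option backward.isDefEq.respectTransparency.types false in
lemma map_ι {V U : S.AffineZariskiSite} (i : V ⟶ U) :
    Spec.map ((Faff B).map i.op) ≫ (cov B φ hB).f U = (cov B φ hB).f V :=
  colimit.w (gd B φ hB).functor i

set_option backward.isDefEq.respectTransparency.types false in
lemma objHom_naturality {V U : S.AffineZariskiSite} (i : V ⟶ U) :
    (relSpec B φ hB).presheaf.map (homOfLE ((toBase B φ hB).preimage_mono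
      (Scheme.AffineZariskiSite.toOpens_mono i.le))).op ≫ objHom B φ hB V =
      objHom B φ hB U ≫ (Faff B).map i.op := by
  unfold objHom
  rw [Scheme.Hom.map_appLE_assoc, Category.assoc]
  exact appLE_ΓSpecIso_naturality ((Faff B).map i.op) ((cov B φ hB).f U) ((cov B φ hB).f V)
    (map_ι B φ hB i) _ _ _

set_option backward.isDefEq.respectTransparency.types false in
lemma toBase_app_objHom (U : S.AffineZariskiSite) :
    (toBase B φ hB).app U.toOpens ≫ objHom B φ hB U = φ.hom.app (op U.toOpens) := by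
  unfold objHom
  exact app_appLE_ΓSpecIso U.2 ((cov B φ hB).f U) (toBase B φ hB) ((αaff B φ).app (op U))
    (ι_toBase B φ hB U) _

set_option backward.isDefEq.respectTransparency.types false in
instance instIsAffineHomToBase : IsAffineHom (toBase B φ hB) := by
  refine ⟨fun U hU => ?_⟩
  have h := toBase_preimage B φ hB ⟨U, hU⟩
  change toBase B φ hB ⁻¹ᵁ U = _ at h
  rw [h]
  have : IsAffine ((cov B φ hB).X ⟨U, hU⟩) :=
    inferInstanceAs (IsAffine (Spec (B.obj.obj (op U))))
  exact isAffineOpen_opensRange _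

/-- restriction of sheaves of rings to the affine Zariski site (an equivalence) -/
noncomputable abbrev Φ : Sheaf (Opens.grothendieckTopology S) CommRingCat.{u} ⥤
    Sheaf (Scheme.AffineZariskiSite.grothendieckTopology S) CommRingCat.{u} :=
  (Scheme.AffineZariskiSite.toOpensFunctor S).sheafPushforwardContinuous CommRingCat.{u}
    (Scheme.AffineZariskiSite.grothendieckTopology S) (Opens.grothendieckTopology S)

/-- the direct image of the structure sheaf of the relative spectrum -/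
noncomputable abbrev pushO : Sheaf (Opens.grothendieckTopology S) CommRingCat.{u} :=
  (TopCat.Sheaf.pushforward CommRingCat.{u} (toBase B φ hB).base).obj (relSpec B φ hB).sheaf

/-- `Γ(X, f⁻¹U) ≅ B(U)` -/
noncomputable def objIso (U : S.AffineZariskiSite) :
    Γ(relSpec B φ hB, toBase B φ hB ⁻¹ᵁ U.toOpens) ≅ B.obj.obj (op U.toOpens) :=
  asIso (objHom B φ hB U)

set_option backward.isDefEq.respectTransparency.types false in
/-- the iso on the affine Zariski site -/
noncomputable def affIso : (Scheme.AffineZariskiSite.toOpensFunctor S).op ⋙ (pushO B φ hB).obj ≅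
    (Scheme.AffineZariskiSite.toOpensFunctor S).op ⋙ B.obj :=
  NatIso.ofComponents (fun U => objIso B φ hB U.unop) (by
    rintro ⟨U⟩ ⟨V⟩ ⟨i⟩
    exact objHom_naturality B φ hB i)

/-- the iso in the category of sheaves on the affine Zariski site -/
noncomputable def affSheafIso : (Φ (S := S)).obj (pushO B φ hB) ≅ (Φ (S := S)).obj B :=
  (fullyFaithfulSheafToPresheaf _ _).preimageIso (affIso B φ hB)

/-- `f_* O_X ≅ B` -/
noncomputable def sheafIso : pushO B φ hB ≅ B :=
  (Φ (S := S)).preimageIso (affSheafIso B φ hB)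

lemma comp_preimageIso_hom {O P B' : Sheaf (Opens.grothendieckTopology S) CommRingCat.{u}}
    (ψ : O ⟶ B') (c : O ⟶ P) (ε : (Φ (S := S)).obj P ≅ (Φ (S := S)).obj B')
    (h : (Φ (S := S)).map c ≫ ε.hom = (Φ (S := S)).map ψ) :
    c ≫ ((Φ (S := S)).preimageIso ε).hom = ψ := by
  apply (Φ (S := S)).map_injective
  rw [Functor.map_comp, Functor.preimageIso_hom, Functor.map_preimage, h]

lemma comp_symm_hom {O P B' : Sheaf (Opens.grothendieckTopology S) CommRingCat.{u}}
    (ψ : O ⟶ B') (c : O ⟶ P) (e : P ≅ B') (h : c ≫ e.hom = ψ) : ψ ≫ e.symm.hom = c := by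
  rw [Iso.symm_hom, Iso.comp_inv_eq, h]

/-- `O_S` as a sheaf on the site -/
noncomputable abbrev OS (S : Scheme.{u}) : Sheaf (Opens.grothendieckTopology S) CommRingCat.{u} :=
  S.sheaf

/-- `f♭ : O_S ⟶ f_* O_X` as a morphism of sheaves -/
noncomputable def cSheaf : OS S ⟶ pushO B φ hB := ⟨(toBase B φ hB).c⟩

lemma cSheaf_sheafIso : cSheaf B φ hB ≫ (sheafIso B φ hB).hom = (φ : OS S ⟶ B) := by
  refine comp_preimageIso_hom (φ : OS S ⟶ B) (cSheaf B φ hB) (affSheafIso B φ hB) ?_
  ext U : 3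
  exact toBase_app_objHom B φ hB U.unop

theorem exists_iso :
    ∃ (e : B ≅ pushO B φ hB), (φ ≫ e.hom).hom = (toBase B φ hB).c := by
  refine ⟨(sheafIso B φ hB).symm, ?_⟩
  have h := comp_symm_hom (φ : OS S ⟶ B) (cSheaf B φ hB) (sheafIso B φ hB) (cSheaf_sheafIso B φ hB)
  exact congrArg (fun t => t.hom) h

end Glue

end Groth.Agent.Lib.Helper66.RelSpec
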